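import Cfsg.Agent.H53.HC.Rgd
import Cfsg.Agent.H246.Dl.KFix
import Cfsg.Agent.H419.TwoTrans
import Cfsg.Agent.H395.Jordan
import Cfsg.Agent.H710.RankOneFix
import Cfsg.Agent.H687.Gen
import Cfsg.Agent.Characters.Counting
import Cfsg.Agent.Characters.GaloisBasic
import Cfsg.Agent.CharactersDeep.FeitLinear

/-!
# S4947, FOUR-QE-K: cuspidal characters of odd degree in rank one (helper687)

* `exists_odd_constituent` : a character of odd degree of a subgroup of odd index lies below an irreducible character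
  of odd degree.
* `exists_cusp_rankOne` : `B = U H`, `G = B ∪ U n B`, `n` inverts the group `H` of odd order, `U ≠ 1` a 2-group: there is
  an irreducible character of odd degree of `G` without `U`-fixed vectors.
-/

set_option autoImplicit false

open scoped ComplexConjugate
open Cfsg

namespace Cfsg.Agent.H687.FourK

open Cfsg.Agent.OddOrderCharacters.Clifford Cfsg.Agent.Characters Cfsg.Agent.H246.Dl Cfsg.Agent.H53.HC

section

variable {G : Type*} [Group G]

/-- a character of odd degree has an irreducible constituent of odd degree -/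
theorem exists_odd_of_character [Fintype G] {ρ : G → ℂ} (hρ : IsCharacter G ρ) {d : ℕ} (hd : ρ 1 = d)
    (hodd : Odd d) : ∃ χ : G → ℂ, IsIrrCharacter G χ ∧ ¬ 2 ∣ charDegree χ ∧ classInner ρ χ ≠ 0 := by
  classical
  have : Finite (IrrCharacter G) := Core.finite_irr
  have : Fintype (IrrCharacter G) := Fintype.ofFinite _
  obtain ⟨m, hm⟩ := Core.exists_nat_comb hρ
  by_contra hcon
  push Not at hcon
  have h1 : (d : ℂ) = ((∑ χ : IrrCharacter G, m χ * charDegree (χ : G → ℂ) : ℕ) : ℂ) := by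
    rw [← hd, hm]
    push_cast
    rw [Finset.sum_apply]
    refine Finset.sum_congr rfl fun χ _ => ?_
    rw [Pi.smul_apply, nsmul_eq_mul, Blocks.Basic.irr_one_eq_charDegree χ.2]
  have h2 : d = ∑ χ : IrrCharacter G, m χ * charDegree (χ : G → ℂ) := by exact_mod_cast h1
  have h3 : 2 ∣ d := by
    rw [h2]
    refine Finset.dvd_sum fun χ _ => ?_
    by_cases h : 2 ∣ charDegree (χ : G → ℂ)
    · exact h.mul_left _
    · have h4 := hcon χ χ.2 h
      rw [hm, Core.classInner_sum_nsmul_irr] at h4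
      have h5 : m χ = 0 := by exact_mod_cast h4
      rw [h5, zero_mul]
      exact dvd_zero 2
  exact (Nat.not_even_iff_odd.2 hodd) (even_iff_two_dvd.2 h3)

/-- **Odd constituents of induced characters.** -/
theorem exists_odd_constituent [Finite G] (H : Subgroup G) [Fintype H] (hidx : Odd H.index) {ψ : H → ℂ}
    (hψ : IsIrrCharacter H ψ) (hd : ¬ 2 ∣ charDegree ψ) :
    ∃ χ : G → ℂ, IsIrrCharacter G χ ∧ ¬ 2 ∣ charDegree χ ∧ classInner ψ (fun t : H => χ t) ≠ 0 := by
  have : Fintype G := Fintype.ofFinite G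
  obtain ⟨χ, h1, h2, h3⟩ := exists_odd_of_character (ρ := indFun H ψ)
    (Cfsg.Agent.S0148.result H _ (Core.isIrr_isCharacter hψ)) (d := H.index * charDegree ψ) (by
      rw [Cfsg.Agent.H53.HC.indFun_one, Blocks.Basic.irr_one_eq_charDegree hψ]
      push_cast
      rfl) (hidx.mul (Nat.odd_iff.2 (by omega)))
  refine ⟨χ, h1, h2, ?_⟩
  rwa [Cfsg.Agent.OddOrderCharacters.Clifford.classInner_indFun H ψ χ (Core.isIrr_isClassFunction h1)] at h3

theorem isIntegral_nat (k : ℕ) : IsIntegral ℤ (k : ℂ) := by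
  have h := isIntegral_algebraMap (R := ℤ) (A := ℂ) (x := (k : ℤ))
  simpa using h

/-- If all irreducible characters of odd degree but the trivial one vanish at `x ≠ 1` a contradiction arises. -/
theorem false_of_vanish [Finite G] {x : G} (hx : x ≠ 1)
    (h : ∀ χ : G → ℂ, IsIrrCharacter G χ → ¬ 2 ∣ charDegree χ → χ ≠ 1 → χ x = 0) : False := by
  classical
  have : Finite (IrrCharacter G) := Core.finite_irr
  have : Fintype (IrrCharacter G) := Fintype.ofFinite _
  have h1 := Cfsg.Agent.Characters.Counting.sum_irr_one_mul (G := G) x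
  rw [if_neg hx] at h1
  let one : IrrCharacter G := ⟨1, Core.isIrr_one⟩
  rw [← Finset.add_sum_erase _ _ (Finset.mem_univ one)] at h1
  have h2 : ∀ χ : IrrCharacter G, χ ∈ Finset.univ.erase one → (χ : G → ℂ) 1 * (χ : G → ℂ) x =
      ((2 : ℕ) : ℂ) * (((charDegree (χ : G → ℂ) / 2 : ℕ) : ℂ) * (χ : G → ℂ) x) := by
    intro χ hχ
    by_cases hd : 2 ∣ charDegree (χ : G → ℂ)
    · obtain ⟨k, hk⟩ := hd
      rw [Blocks.Basic.irr_one_eq_charDegree χ.2, hk, Nat.mul_div_cancel_left _ (by norm_num)]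
      push_cast
      ring
    · rw [h χ χ.2 hd fun h' => (Finset.mem_erase.1 hχ).1 (Subtype.ext h')]
      ring
  rw [Finset.sum_congr rfl h2, ← Finset.mul_sum] at h1
  have h3 : IsIntegral ℤ (∑ χ ∈ Finset.univ.erase one, ((charDegree (χ : G → ℂ) / 2 : ℕ) : ℂ) * (χ : G → ℂ) x) := by
    refine IsIntegral.sum _ fun χ _ => ?_
    exact (isIntegral_nat _).mul (GaloisBasic.isIntegral_apply (Core.isIrr_isCharacter χ.2) x)
  refine Cfsg.Agent.H687.not_isIntegral_inv (le_refl 2) h3 ?_
  rw [← h1]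
  simp [one]

end

section rank

variable {G : Type*} [Group G]

/-- the index of `B` -/
theorem card_quot [Finite G] (U H : Subgroup G) (n : G) (hU1 : U ≠ ⊥)
    (hcov : ∀ g, g ∈ U ⊔ H ∨ ∃ u ∈ U, ∃ b ∈ U ⊔ H, g = u * n * b)
    (hinj : ∀ u ∈ U, n⁻¹ * u * n ∈ U ⊔ H → u = 1) : n ∉ U ⊔ H ∧ Nat.card (G ⧸ (U ⊔ H)) = Nat.card U + 1 := by
  classical
  have : Fintype U := Fintype.ofFinite U
  set B : Subgroup G := U ⊔ H with hB
  have hUB : U ≤ B := le_sup_left
  have hnB : n ∉ B := by
    intro h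
    apply hU1
    rw [eq_bot_iff]
    intro u hu
    exact hinj u hu (mul_mem (mul_mem (inv_mem h) (hUB hu)) h)
  refine ⟨hnB, ?_⟩
  have hidx : Nat.card (G ⧸ B) = Nat.card U + 1 := by
    have hb : Function.Bijective (fun o : Option U => (o.elim (QuotientGroup.mk 1) fun u => QuotientGroup.mk ((u : G) * n) : G ⧸ B)) := by
      constructor
      · intro a b hab
        cases a with
        | none =>
          cases b with
          | none => rfl
          | some u =>
            exfalso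
            have h1 : (QuotientGroup.mk 1 : G ⧸ B) = QuotientGroup.mk ((u : G) * n) := hab
            rw [QuotientGroup.eq, inv_one, one_mul] at h1
            exact hnB ((Subgroup.mul_mem_cancel_left B (hUB u.2)).1 h1)
        | some u =>
          cases b with
          | none =>
            exfalso
            have h1 : (QuotientGroup.mk ((u : G) * n) : G ⧸ B) = QuotientGroup.mk 1 := hab
            rw [QuotientGroup.eq, mul_one, inv_mem_iff] at h1
            exact hnB ((Subgroup.mul_mem_cancel_left B (hUB u.2)).1 h1)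
          | some v =>
            have h1 : (QuotientGroup.mk ((u : G) * n) : G ⧸ B) = QuotientGroup.mk ((v : G) * n) := hab
            rw [QuotientGroup.eq] at h1
            have h2 : n⁻¹ * ((u : G)⁻¹ * v) * n ∈ B := by
              have e : n⁻¹ * ((u : G)⁻¹ * v) * n = ((u : G) * n)⁻¹ * (v * n) := by group
              rw [e]
              exact h1
            have h3 := hinj _ (mul_mem (inv_mem u.2) v.2) h2
            rw [inv_mul_eq_one] at h3
            rw [Subtype.ext h3]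
      · intro q
        obtain ⟨g, rfl⟩ := QuotientGroup.mk_surjective q
        rcases hcov g with h | ⟨u, hu, b, hb, rfl⟩
        · refine ⟨none, ?_⟩
          show (QuotientGroup.mk 1 : G ⧸ B) = QuotientGroup.mk g
          rw [QuotientGroup.eq, inv_one, one_mul]
          exact h
        · refine ⟨some ⟨u, hu⟩, ?_⟩
          show (QuotientGroup.mk (u * n) : G ⧸ B) = QuotientGroup.mk (u * n * b)
          rw [QuotientGroup.eq, inv_mul_cancel_left]
          exact hb
    rw [← Nat.card_congr (Equiv.ofBijective _ hb), Nat.card_eq_fintype_card, Fintype.card_option,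
      ← Nat.card_eq_fintype_card]
  exact hidx

/-- the `2`-elements -/
theorem sq_of_rankOne [Finite G] (U H : Subgroup G) (n : G) (hU : IsPGroup 2 U) (hU1 : U ≠ ⊥)
    (hH : Odd (Nat.card H)) (hHU : H ≤ Subgroup.normalizer (U : Set G))
    (hcov : ∀ g, g ∈ U ⊔ H ∨ ∃ u ∈ U, ∃ b ∈ U ⊔ H, g = u * n * b)
    (hinj : ∀ u ∈ U, n⁻¹ * u * n ∈ U ⊔ H → u = 1) (hsq : ∀ u ∈ U, u * u = 1) {g : G}
    (hg : ∃ j : ℕ, orderOf g = 2 ^ j) : g * g = 1 := by
  classical
  have h2 : Fact (Nat.Prime 2) := ⟨Nat.prime_two⟩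
  obtain ⟨-, hidx⟩ := card_quot U H n hU1 hcov hinj
  have hUe : 2 ∣ Nat.card U := by
    obtain ⟨k, hk⟩ := IsPGroup.iff_card.1 hU
    rw [hk]
    refine dvd_pow_self 2 ?_
    rintro rfl
    rw [pow_zero] at hk
    exact hU1 (Subgroup.card_eq_one.1 hk)
  have hB : ¬ 2 ∣ (U ⊔ H).index := by
    rw [Subgroup.index, hidx]
    omega
  have hrel : ¬ 2 ∣ U.relIndex (U ⊔ H) := by
    intro hd
    have hN : (U.subgroupOf (U ⊔ H)).Normal :=
      (Subgroup.normal_subgroupOf_iff_le_normalizer le_sup_left).2 (sup_le Subgroup.le_normalizer hHU)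
    let f : H →* (↥(U ⊔ H) ⧸ U.subgroupOf (U ⊔ H)) :=
      (QuotientGroup.mk' (U.subgroupOf (U ⊔ H))).comp (Subgroup.inclusion le_sup_right)
    have hf : Function.Surjective f := by
      intro q
      obtain ⟨⟨b, hb⟩, rfl⟩ := QuotientGroup.mk'_surjective (U.subgroupOf (U ⊔ H)) q
      have h1 : b ∈ ((U ⊔ H : Subgroup G) : Set G) := hb
      rw [sup_comm, Subgroup.coe_mul_of_left_le_normalizer_right _ _ hHU, Set.mem_mul] at h1
      obtain ⟨t, ht, u, hu, e⟩ := h1
      refine ⟨⟨t, ht⟩, (QuotientGroup.eq (s := U.subgroupOf (U ⊔ H))).2 ?_⟩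
      rw [Subgroup.mem_subgroupOf]
      show t⁻¹ * b ∈ U
      rw [← e, inv_mul_cancel_left]
      exact hu
    have h3 := Subgroup.card_dvd_of_surjective f hf
    rw [← Nat.not_even_iff_odd, even_iff_two_dvd] at hH
    exact hH (hd.trans h3)
  have hUi : ¬ 2 ∣ U.index := by
    rw [← Subgroup.relIndex_mul_index (le_sup_left : U ≤ U ⊔ H), Nat.prime_two.dvd_mul]
    push Not
    exact ⟨hrel, hB⟩
  let P : Sylow 2 G := hU.toSylow hUi
  have hP : (P : Subgroup G) = U := rfl
  obtain ⟨j, hj⟩ := hg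
  have hpg : IsPGroup 2 (Subgroup.zpowers g) := IsPGroup.iff_card.2 ⟨j, by rw [Nat.card_zpowers, hj]⟩
  obtain ⟨Q, hQ⟩ := hpg.exists_le_sylow
  obtain ⟨x, hx⟩ := MulAction.exists_smul_eq G Q P
  have h3 : x * g * x⁻¹ ∈ U := by
    rw [← hP, ← hx, Sylow.coe_subgroup_smul]
    exact Subgroup.smul_mem_pointwise_smul _ (MulAut.conj x) _ (hQ (Subgroup.mem_zpowers g))
  have h4 := hsq _ h3
  have h5 : x * g * x⁻¹ * (x * g * x⁻¹) = x * (g * g) * x⁻¹ := by group
  rw [h5] at h4
  exact conj_eq_one_iff.1 h4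

/-- **Rank one.** -/
theorem exists_cusp_rankOne [Finite G] (U H : Subgroup G) (n : G) (hU : IsPGroup 2 U) (hU1 : U ≠ ⊥)
    (hH : Odd (Nat.card H)) (hn : ∀ t ∈ H, n * t * n⁻¹ = t⁻¹) (hHU : H ≤ Subgroup.normalizer (U : Set G))
    (hcov : ∀ g, g ∈ U ⊔ H ∨ ∃ u ∈ U, ∃ b ∈ U ⊔ H, g = u * n * b)
    (hinj : ∀ u ∈ U, n⁻¹ * u * n ∈ U ⊔ H → u = 1) :
    ∃ θ : G → ℂ, IsIrrCharacter G θ ∧ ¬ 2 ∣ charDegree θ ∧ ∀ [Fintype U], ∑ u : U, θ u = 0 := by
  classical
  have : Fintype G := Fintype.ofFinite G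
  have : Fintype U := Fintype.ofFinite U
  set B : Subgroup G := U ⊔ H with hB
  have : Fintype B := Fintype.ofFinite B
  have hUB : U ≤ B := le_sup_left
  have hHB : H ≤ B := le_sup_right
  obtain ⟨hnB, hidx⟩ : n ∉ B ∧ Nat.card (G ⧸ B) = Nat.card U + 1 := card_quot U H n hU1 hcov hinj
  have hBn : B ≤ Subgroup.normalizer (U : Set G) := sup_le Subgroup.le_normalizer hHU
  have hUe : 2 ∣ Nat.card U := by
    obtain ⟨k, hk⟩ := IsPGroup.iff_card.1 hU
    rw [hk]
    refine dvd_pow_self 2 ?_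
    rintro rfl
    rw [pow_zero] at hk
    exact hU1 (Subgroup.card_eq_one.1 hk)
  have hUpos : 0 < Nat.card U := Nat.card_pos
  have hX2 : 2 ≤ Nat.card (G ⧸ B) := by omega
  -- two-transitivity
  have h2t : MulAction.IsMultiplyPretransitive G (G ⧸ B) 2 := by
    rw [MulAction.is_two_pretransitive_iff]
    have key : ∀ a b : G ⧸ B, a ≠ b → ∃ g : G, g • (QuotientGroup.mk 1 : G ⧸ B) = a ∧
        g • (QuotientGroup.mk n : G ⧸ B) = b := by
      intro a b hab
      obtain ⟨x, rfl⟩ := QuotientGroup.mk_surjective a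
      obtain ⟨y, rfl⟩ := QuotientGroup.mk_surjective b
      have hxy : x⁻¹ * y ∉ B := fun h => hab (QuotientGroup.eq.2 h)
      rcases hcov (x⁻¹ * y) with h | ⟨u, hu, c, hc, e⟩
      · exact absurd h hxy
      · refine ⟨x * u, ?_, ?_⟩
        · show (QuotientGroup.mk (x * u * 1) : G ⧸ B) = QuotientGroup.mk x
          rw [QuotientGroup.eq]
          have e1 : (x * u * 1)⁻¹ * x = u⁻¹ := by group
          rw [e1]
          exact inv_mem (hUB hu)
        · show (QuotientGroup.mk (x * u * n) : G ⧸ B) = QuotientGroup.mk y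
          rw [QuotientGroup.eq]
          have e1 : (x * u * n)⁻¹ * y = c := by
            have e2 : y = x * (u * n * c) := by rw [← e]; group
            rw [e2]
            group
          rw [e1]
          exact hc
    intro a b c d hab hcd
    obtain ⟨g, hg1, hg2⟩ := key a b hab
    obtain ⟨k, hk1, hk2⟩ := key c d hcd
    refine ⟨k * g⁻¹, ?_, ?_⟩
    · rw [← hg1, mul_smul, inv_smul_smul, hk1]
    · rw [← hg2, mul_smul, inv_smul_smul, hk2]
  -- a derangement
  have hpre : MulAction.IsPretransitive G (G ⧸ B) := inferInstance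
  obtain ⟨x, hx⟩ := Cfsg.Agent.H395.Jordan.exists_derangement hpre hX2
  have hx1 : x ≠ 1 := by
    rintro rfl
    exact hx (QuotientGroup.mk 1) (one_smul _ _)
  have hxB : ∀ g : G, g⁻¹ * x * g ∉ B := by
    intro g hg
    apply hx (QuotientGroup.mk g)
    show (QuotientGroup.mk (x * g) : G ⧸ B) = QuotientGroup.mk g
    rw [QuotientGroup.eq]
    have e : (x * g)⁻¹ * g = (g⁻¹ * x * g)⁻¹ := by group
    rw [e]
    exact inv_mem hg
  by_contra hcon
  push Not at hcon
  refine false_of_vanish hx1 fun χ hχ hd hne1 => ?_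
  obtain ⟨hf, hfix0⟩ := hcon χ hχ hd
  have hfix : HasFix χ U := ⟨hf, hfix0⟩
  obtain ⟨β, hβ, hβχ, hβU⟩ := exists_const hUB hBn (Core.isIrr_isCharacter hχ) hfix
  -- `B / U` is abelian
  have hdec : ∀ b ∈ B, ∃ u ∈ U, ∃ t ∈ H, b = u * t := by
    intro b hb
    have h1 : b ∈ ((U ⊔ H : Subgroup G) : Set G) := hb
    rw [Subgroup.coe_mul_of_right_le_normalizer_left _ _ hHU, Set.mem_mul] at h1
    obtain ⟨u, hu, t, ht, e⟩ := h1
    exact ⟨u, hu, t, ht, e.symm⟩
  have hHc : ∀ s ∈ H, ∀ t ∈ H, s * t = t * s := by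
    intro s hs t ht
    have h1 := hn (s * t) (mul_mem hs ht)
    have h2 : n * (s * t) * n⁻¹ = (n * s * n⁻¹) * (n * t * n⁻¹) := by group
    rw [h2, hn s hs, hn t ht, mul_inv_rev] at h1
    have h3 := congrArg (·⁻¹) h1
    simp only [mul_inv_rev, inv_inv] at h3
    exact h3.symm
  have hβ1 : β 1 = 1 := by
    refine Cfsg.Agent.CharactersDeep.FeitLinear.apply_one_eq_one (U.subgroupOf B) ?_ hβ ?_
    · rintro ⟨x, hx⟩ ⟨y, hy⟩
      rw [Subgroup.mem_subgroupOf]
      obtain ⟨u, hu, t, ht, rfl⟩ := hdec x hx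
      obtain ⟨v, hv, s, hs, rfl⟩ := hdec y hy
      have e : u * t * (v * s) * (u * t)⁻¹ * (v * s)⁻¹ = u * (t * v * t⁻¹) * (s * u⁻¹ * s⁻¹) * v⁻¹ := by
        have e1 : u * t * (v * s) * (u * t)⁻¹ * (v * s)⁻¹ = u * (t * v * t⁻¹) * ((t * s) * t⁻¹ * u⁻¹ * s⁻¹) * v⁻¹ := by
          group
        rw [e1, hHc t ht s hs]
        group
      show u * t * (v * s) * (u * t)⁻¹ * (v * s)⁻¹ ∈ U
      rw [e]
      refine mul_mem (mul_mem (mul_mem hu ?_) ?_) (inv_mem hv)
      · exact (Subgroup.mem_normalizer_iff.1 (hHU ht) v).1 hv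
      · exact (Subgroup.mem_normalizer_iff.1 (hHU hs) _).1 (inv_mem hu)
    · rintro ⟨v, hv⟩ hvU
      exact hβU v (Subgroup.mem_subgroupOf.1 hvU)
  obtain ⟨f, hf1⟩ := Linear.exists_hom_of_isIrrCharacter hβ hβ1
  have hfU : ∀ (u : G) (hu : u ∈ U), f ⟨u, hUB hu⟩ = 1 := by
    intro u hu
    have h1 := hβU u hu
    rw [hβ1, hf1] at h1
    exact Units.ext h1
  have hχI : classInner (indFun B β) χ ≠ 0 := by
    rwa [Cfsg.Agent.OddOrderCharacters.Clifford.classInner_indFun B β χ (Core.isIrr_isClassFunction hχ)]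
  by_cases hfH : ∀ (t : G) (ht : t ∈ H), f ⟨t, hHB ht⟩ = 1
  · -- the trivial character
    exfalso
    have hβone : β = fun _ => 1 := by
      rw [hf1]
      funext b
      obtain ⟨u, hu, t, ht, e⟩ := hdec b b.2
      have e1 : b = ⟨u, hUB hu⟩ * ⟨t, hHB ht⟩ := Subtype.ext e
      rw [e1, map_mul, hfU u hu, hfH t ht]
      simp
    have hperm : (fun g : G => (Nat.card (MulAction.fixedBy (G ⧸ B) g) : ℂ)) = indFun B (fun _ => 1) := by
      have h1 := S0190.result (G := G) (G ⧸ B) (QuotientGroup.mk 1)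
      rw [h1]
      have key : ∀ K : Subgroup G, K = B → indFun K (fun _ => (1 : ℂ)) = indFun B (fun _ => 1) := by
        rintro _ rfl
        rfl
      exact key _ (SuzukiRankOne.PSUModel.stab_one B)
    obtain ⟨θ, hθ⟩ := Cfsg.Agent.H419.TwoTrans.exists_irr (G ⧸ B) h2t hX2
    have hsum : indFun B β = 1 + (θ : G → ℂ) := by
      rw [hβone, ← hperm]
      funext g
      rw [Pi.add_apply, Pi.one_apply, hθ]
      ring
    rw [hsum, Core.classInner_add_left, Core.classInner_irr_ne Core.isIrr_one hχ (fun h => hne1 h.symm), zero_add] at hχI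
    have hθχ : (θ : G → ℂ) = χ := by
      by_contra hne
      exact hχI (Core.classInner_irr_ne θ.2 hχ hne)
    apply hd
    have h1 := hθ 1
    rw [hθχ, MulAction.fixedBy_one_eq_univ, Nat.card_coe_set_eq, Set.ncard_univ, hidx,
      Blocks.Basic.irr_one_eq_charDegree hχ] at h1
    have h2 : charDegree χ = Nat.card U := by
      have h3 : ((charDegree χ : ℕ) : ℂ) = (Nat.card U : ℂ) := by
        rw [h1]
        push_cast
        ring
      exact_mod_cast h3
    rw [h2]
    exact hUe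
  · -- a nontrivial character
    push Not at hfH
    obtain ⟨t₀, ht₀, hne0⟩ := hfH
    have hninv : ∀ t ∈ H, n⁻¹ * t * n = t⁻¹ := by
      intro t ht
      have h1 := hn t⁻¹ (inv_mem ht)
      rw [inv_inv] at h1
      calc n⁻¹ * t * n = n⁻¹ * (n * t⁻¹ * n⁻¹) * n := by rw [h1]
        _ = t⁻¹ := by group
    have hirr : IsIrrCharacter G (indFun B β) := by
      refine isIrr_indFun_rep B hβ ?_
      intro y hy
      rcases hcov y with h | ⟨u, hu, b, hb, e⟩
      · exact absurd h hy
      · refine ⟨u, hUB hu, b, hb, n, e, H, hHB, fun l hl => ?_, ?_⟩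
        · rw [hninv l hl]
          exact inv_mem (hHB hl)
        · intro hfin
          have h1 : ∀ l : H, β ⟨l, hHB l.2⟩ * conj (β ⟨n⁻¹ * l * n, by rw [hninv l l.2]; exact inv_mem (hHB l.2)⟩) =
              ((f.comp (Subgroup.inclusion hHB) * f.comp (Subgroup.inclusion hHB)) l : ℂˣ) := by
            intro l
            have e1 : (⟨n⁻¹ * l * n, by rw [hninv l l.2]; exact inv_mem (hHB l.2)⟩ : B) = (⟨l, hHB l.2⟩ : B)⁻¹ :=
              Subtype.ext (hninv l l.2)
            rw [e1, hf1]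
            simp only [map_inv, MonoidHom.mul_apply, MonoidHom.comp_apply, Units.val_mul, Units.val_inv_eq_inv_val]
            have h2 : ‖((f ⟨l, hHB l.2⟩ : ℂˣ) : ℂ)‖ = 1 := Linear.norm_hom_apply f _
            have h3 : conj (((f ⟨l, hHB l.2⟩ : ℂˣ) : ℂ)⁻¹) = ((f ⟨l, hHB l.2⟩ : ℂˣ) : ℂ) := by
              rw [map_inv₀, Complex.inv_eq_conj (by rw [Complex.norm_conj]; exact h2), Complex.conj_conj]
            rw [h3]
            rfl
          rw [Finset.sum_congr rfl fun l _ => h1 l]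
          refine sum_hom_units_eq_zero ((Units.coeHom ℂ).comp
            (f.comp (Subgroup.inclusion hHB) * f.comp (Subgroup.inclusion hHB))) ?_
          intro h4
          apply hne0
          have h5 := DFunLike.congr_fun h4 ⟨t₀, ht₀⟩
          have h6 : f ⟨t₀, hHB ht₀⟩ * f ⟨t₀, hHB ht₀⟩ = 1 := Units.ext h5
          have h7 : f ⟨t₀, hHB ht₀⟩ ^ Nat.card H = 1 := by
            have h8 : (⟨t₀, ht₀⟩ : H) ^ Nat.card H = 1 := pow_card_eq_one'
            have h9 := congrArg (f.comp (Subgroup.inclusion hHB)) h8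
            rw [map_pow, map_one] at h9
            exact h9
          obtain ⟨k, hk⟩ := hH
          rw [hk, pow_succ, pow_mul, pow_two, h6, one_pow, one_mul] at h7
          exact h7
    have heq : indFun B β = χ := by
      by_contra hne
      exact hχI (Core.classInner_irr_ne hirr hχ hne)
    rw [← heq, Cfsg.Agent.OddOrderCharacters.Clifford.indFun_apply]
    rw [Finset.sum_eq_zero, mul_zero]
    intro g _
    exact ext_apply_not_mem B β _ (hxB g)

end rank

end Cfsg.Agent.H687.FourK
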