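import Cfsg.Agent.H967.K4.Cusp
import Cfsg.Agent.H619.Gow.LeviSplit
import Cfsg.Agent.H687.FourK.RankOne

/-!
# Cuspidal `σ`-fixed characters of odd degree for single nodes, characteristic two (helper687, TEAM K4)

* `NodeInv R i` : a representative of `s_i` in `M_i` inverts `T ∩ M_i`;
* `oc_node_inv` : then `OC {i}` if the elements of `X_i` square to one (Sylow `2`-subgroups of `M_i` of exponent `2`);
* `oc_node_nd` : nodes parametrised by `SL₂(F)`.
-/

set_option autoImplicit false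
set_option linter.unusedSectionVars false

open scoped ComplexConjugate
open Cfsg

namespace Cfsg.Agent.H687.FourK

open Cfsg.Agent.OddOrderCharacters.Clifford Cfsg.Agent.Characters
open CoxeterSystem Cfsg.Agent.ChevalleyStructure.CoxeterGeom Cfsg.Agent.Tits.Roots Cfsg.Agent.Tits.Core
  Cfsg.Agent.Tits.Exchange Cfsg.Agent.Nodes.Reps Cfsg.Agent.Nodes.BNOf Cfsg.Agent.Nodes.StabComb
  Cfsg.Agent.Nodes.Bruhat Cfsg.Agent.Nodes.OppDec Cfsg.Agent.Nodes.LeviDec Cfsg.Agent.H53.HC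
  Cfsg.Agent.KFacts.RgdAut Cfsg.Agent.H246.Dl
open Cfsg.Agent.H967.K4 (SF OC)
open Cfsg.Agent.ChevalleyStructure.SL2Hom (up lo)
open Cfsg.Agent.Nodes.RGDFoldSL (wS hS coe_wS coe_hS)

universe u

section main

variable {I W Y : Type*} [Fintype I] [DecidableEq I] [Group W] [Group Y] {M : CoxeterMatrix I}
  {cs : CoxeterSystem M W} {A : I → I → ℤ} {h : IsCartan M A} {r : ℕ} {T : Subgroup Y} {n : I → Y}
  {X : (I → ℤ) → Subgroup Y}

/-! ### rank one nodes -/

/-- a representative of the reflection in `M_i` inverts `T ∩ M_i` -/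
def NodeInv (R : RGD cs h r T n X) (i : I) : Prop :=
  ∃ g ∈ MJ cs h X {i}, Rp cs R.nsys (cs.simple i) g ∧ ∀ t ∈ T, t ∈ MJ cs h X {i} → g * t * g⁻¹ = t⁻¹

/-- a representative of the reflection inside `M_i` -/
theorem exists_rp_MJ (R : RGD cs h r T n X) (i : I) :
    ∃ t ∈ T, t * n i ∈ MJ cs h X {i} ∧ Rp cs R.nsys (cs.simple i) (t * n i) := by
  obtain ⟨u, hu, hu1⟩ := exists_ne_one R i
  have h1 : n i * u * (n i)⁻¹ ∈ X (-sr i) := by
    have := R.conj_mem (rp_simple cs R.nsys i) (isRoot_sr cs h i) hu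
    rwa [rep_simple_sr] at this
  have h2 : n i * u * (n i)⁻¹ ≠ 1 := by
    intro h3
    exact hu1 (mul_eq_left.1 (mul_inv_eq_one.1 h3))
  obtain ⟨a, ha, t, ht, b, hb, e⟩ := R.rk1 i _ h1 h2
  have hX : X (sr i) ≤ MJ cs h X {i} := RGD.le_Sup (H619.Gow.sr_mem_rootsJ i)
  have hX' : X (-sr i) ≤ MJ cs h X {i} := RGD.le_Sup (H619.Gow.neg_sr_mem_rootsJ i)
  refine ⟨t, ht, ?_, ?_⟩
  · have h3 : t * n i = a⁻¹ * (n i * u * (n i)⁻¹) * b⁻¹ := by
      rw [e]
      group
    rw [h3]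
    exact mul_mem (mul_mem (inv_mem (hX ha)) (hX' h1)) (inv_mem (hX hb))
  · have := (rp_of_mem (cs := cs) (hN := R.nsys) ht).mul (rp_simple cs R.nsys i)
    rwa [one_mul] at this

/-- for an abelian torus -/
theorem NodeInv.of_comm (R : RGD cs h r T n X) (hT : ∀ x ∈ T, ∀ y ∈ T, x * y = y * x) {i : I}
    (hi : ∀ t ∈ T, t ∈ MJ cs h X {i} → n i * t * (n i)⁻¹ = t⁻¹) : NodeInv R i := by
  obtain ⟨s, hs, h1, h2⟩ := exists_rp_MJ R i
  refine ⟨_, h1, h2, fun t ht htM => ?_⟩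
  have e : s * n i * t * (s * n i)⁻¹ = s * (n i * t * (n i)⁻¹) * s⁻¹ := by group
  rw [e, hi t ht htM, hT s hs t⁻¹ (inv_mem ht), mul_inv_cancel_right]

theorem rad_single (i : I) : rad cs h X {i} i = X (sr i) := by
  apply le_antisymm
  · refine RGD.Sup_le fun x hx => ?_
    rcases H619.Gow.rootsJ_single (PosJ_subset _ hx.1) with rfl | rfl
    · exact le_refl _
    · have h1 := hx.2
      rw [Pi.neg_apply, sr_self] at h1
      exact absurd h1 (by norm_num)
  · refine RGD.le_Sup ⟨sr_mem_PosJ (Set.mem_singleton i), ?_⟩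
    rw [sr_self]
    exact one_pos

theorem BJ_single (R : RGD cs h r T n X) {i : I} {g : Y} (hg : g ∈ BJ cs h T X {i}) :
    ∃ u ∈ X (sr i), ∃ t ∈ T, g = u * t := by
  obtain ⟨v, hv, u, hu, t, ht, rfl⟩ := mem_BJ' R (Set.mem_singleton i) hg
  have h1 : v ∈ X (sr i) := by
    have h2 : RGD.Sup X (PosJ cs h {i} \ {sr i}) ≤ X (sr i) := by
      refine RGD.Sup_le fun x hx => ?_
      rcases H619.Gow.rootsJ_single (PosJ_subset _ hx.1) with rfl | rfl
      · exact le_refl _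
      · have h1 := hx.1.2.1 i
        rw [Pi.neg_apply, sr_self, Pi.zero_apply] at h1
        exact absurd h1 (by norm_num)
    exact h2 hv
  exact ⟨v * u, mul_mem h1 hu, t, ht, rfl⟩

theorem BJ_single' (R : RGD cs h r T n X) {i : I} {g : Y} (hg : g ∈ BJ cs h T X {i}) :
    ∃ t ∈ T, ∃ u ∈ X (sr i), g = t * u := by
  obtain ⟨u, hu, t, ht, e⟩ := BJ_single R (inv_mem hg)
  exact ⟨t⁻¹, inv_mem ht, u⁻¹, inv_mem hu, by rw [← mul_inv_rev, ← e, inv_inv]⟩

/-- the decomposition of `M_i` -/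
theorem MJ_single_dec (R : RGD cs h r T n X) [Finite W] {i : I} {k : Y} (hk : Rp cs R.nsys (cs.simple i) k)
    (hkM : k ∈ MJ cs h X {i}) {g : Y} (hg : g ∈ MJ cs h X {i}) :
    (∃ u ∈ X (sr i), ∃ t ∈ T, t ∈ MJ cs h X {i} ∧ g = u * t) ∨
      ∃ u ∈ X (sr i), ∃ t ∈ T, t ∈ MJ cs h X {i} ∧ ∃ v ∈ X (sr i), g = u * k * (t * v) := by
  have hX : X (sr i) ≤ MJ cs h X {i} := RGD.le_Sup (H619.Gow.sr_mem_rootsJ i)
  obtain ⟨w, hw, b₁, hb₁, m, hm, b₂, hb₂, e⟩ := exists_cellJ R (MJ_le_LJ (T := T) {i} hg)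
  have hcase : w = 1 ∨ w = cs.simple i := by
    have h1 : ∀ v ∈ WJ cs ({i} : Set I), v = 1 ∨ v = cs.simple i := by
      intro v hv
      unfold WJ at hv
      induction hv using Subgroup.closure_induction with
      | mem v hv =>
        obtain ⟨j, hj, rfl⟩ := hv
        rw [Set.mem_singleton_iff.1 hj]
        exact Or.inr rfl
      | one => exact Or.inl rfl
      | mul v v' _ _ h1 h2 =>
        rcases h1 with rfl | rfl <;> rcases h2 with rfl | rfl
        · exact Or.inl (one_mul 1)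
        · exact Or.inr (one_mul _)
        · exact Or.inr (mul_one _)
        · exact Or.inl (cs.simple_mul_simple_self i)
      | inv v _ h1 =>
        rcases h1 with rfl | rfl
        · exact Or.inl inv_one
        · exact Or.inr (cs.inv_simple i)
    exact h1 w hw
  rcases hcase with rfl | rfl
  · left
    have h1 : g ∈ BJ cs h T X {i} := by
      rw [e]
      exact mul_mem (mul_mem hb₁ (T_le_BJ hm.mem_of_one)) hb₂
    obtain ⟨u, hu, t, ht, rfl⟩ := BJ_single R h1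
    exact ⟨u, hu, t, ht, (Subgroup.mul_mem_cancel_left _ (hX hu)).1 hg, rfl⟩
  · right
    obtain ⟨u, hu, t, ht, rfl⟩ := BJ_single R hb₁
    obtain ⟨s, hs, v, hv, rfl⟩ := BJ_single' R hb₂
    have h1 : Rp cs R.nsys (cs.simple i) (t * m * s) := by
      have := ((rp_of_mem (cs := cs) (hN := R.nsys) ht).mul hm).mul (rp_of_mem (cs := cs) (hN := R.nsys) hs)
      rwa [one_mul, mul_one] at this
    have h2 := hk.unique h1
    have e2 : g = u * k * ((k⁻¹ * (t * m * s)) * v) := by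
      rw [e]
      group
    refine ⟨u, hu, k⁻¹ * (t * m * s), h2, ?_, v, hv, e2⟩
    have h3 : k⁻¹ * (t * m * s) = k⁻¹ * u⁻¹ * g * v⁻¹ := by
      rw [e2]
      group
    rw [h3]
    exact mul_mem (mul_mem (mul_mem (inv_mem hkM) (inv_mem (hX hu))) hg) (inv_mem (hX hv))

theorem SF.of_sq {G : Type*} [Group G] (h : ∀ g : G, (∃ j : ℕ, orderOf g = 2 ^ j) → g * g = 1) (χ : G → ℂ) : SF χ := by
  intro u s _ hu _
  rw [pow_succ, pow_two, h u hu, one_mul]

/-- **Nodes where the reflection inverts `T ∩ M_i`.** -/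
theorem oc_node_inv (R : RGD cs h 2 T n X) [Finite W] [Finite Y] {i : I} (hi : NodeInv R i)
    (hsq : ∀ u ∈ X (sr i), u * u = 1) : OC cs h X {i} := by
  classical
  obtain ⟨g, hgM, hg, hinv⟩ := hi
  have hX : X (sr i) ≤ MJ cs h X {i} := RGD.le_Sup (H619.Gow.sr_mem_rootsJ i)
  have hgi : Rp cs R.nsys (cs.simple i) g⁻¹ := by
    have := hg.inv
    rwa [cs.inv_simple] at this
  set Mi := MJ cs h X {i} with hMi
  let U : Subgroup Mi := (X (sr i)).subgroupOf Mi
  let H : Subgroup Mi := T.subgroupOf Mi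
  let k : Mi := ⟨g, hgM⟩
  have hTodd : Odd (Nat.card T) := by
    rw [← Nat.not_even_iff_odd, even_iff_two_dvd]
    intro h3
    have h4 := Nat.dvd_gcd h3 (dvd_refl 2)
    rw [R.tcop] at h4
    exact absurd h4 (by norm_num)
  have hHT : Nat.card H ∣ Nat.card T := by
    refine Subgroup.card_dvd_of_injective (Subgroup.subtype Mi |>.subgroupComap T) ?_
    intro a b hab
    have h1 : ((a : Mi) : Y) = ((b : Mi) : Y) := congrArg (fun z : T => (z : Y)) hab
    exact Subtype.ext (Subtype.ext h1)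
  have hHodd : Odd (Nat.card H) := by
    rw [← Nat.not_even_iff_odd, even_iff_two_dvd] at hTodd ⊢
    exact fun h1 => hTodd (h1.trans hHT)
  have hUp : IsPGroup 2 U := (R.pgrp i).of_injective (Subgroup.subgroupOfEquivOfLe hX).toMonoidHom
    (Subgroup.subgroupOfEquivOfLe hX).injective
  have hU1 : U ≠ ⊥ := by
    intro h1
    obtain ⟨u, hu, hu1⟩ := exists_ne_one R i
    apply hu1
    have h2 : (⟨u, hX hu⟩ : Mi) ∈ U := Subgroup.mem_subgroupOf.2 hu
    rw [h1, Subgroup.mem_bot] at h2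
    exact congrArg Subtype.val h2
  have hTn : ∀ t ∈ T, ∀ u, t * u * t⁻¹ ∈ X (sr i) ↔ u ∈ X (sr i) := by
    intro t ht u
    have h1 : cj t (X (sr i)) = X (sr i) := R.tor _ (isRoot_sr cs h i) t ht
    conv_lhs => rw [← h1]
    exact conj_mem_cj
  have hHU : H ≤ Subgroup.normalizer (U : Set Mi) := by
    intro t ht
    rw [Subgroup.mem_normalizer_iff]
    intro u
    exact (hTn t (Subgroup.mem_subgroupOf.1 ht) u).symm
  have hkinv : ∀ t ∈ H, k * t * k⁻¹ = t⁻¹ := fun t ht =>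
    Subtype.ext (hinv t (Subgroup.mem_subgroupOf.1 ht) t.2)
  have hcov : ∀ y : Mi, y ∈ U ⊔ H ∨ ∃ u ∈ U, ∃ b ∈ U ⊔ H, y = u * k * b := by
    rintro ⟨y, hy⟩
    rcases MJ_single_dec R hg hgM hy with ⟨u, hu, t, ht, htM, e⟩ | ⟨u, hu, t, ht, htM, v, hv, e⟩
    · left
      have e1 : (⟨y, hy⟩ : Mi) = ⟨u, hX hu⟩ * ⟨t, htM⟩ := Subtype.ext e
      rw [e1]
      exact mul_mem (le_sup_left (b := H) (Subgroup.mem_subgroupOf.2 hu)) (le_sup_right (a := U) (Subgroup.mem_subgroupOf.2 ht))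
    · right
      exact ⟨⟨u, hX hu⟩, Subgroup.mem_subgroupOf.2 hu, ⟨t, htM⟩ * ⟨v, hX hv⟩,
        mul_mem (le_sup_right (a := U) (Subgroup.mem_subgroupOf.2 ht)) (le_sup_left (b := H) (Subgroup.mem_subgroupOf.2 hv)),
        Subtype.ext e⟩
  have hB : ∀ y : Mi, y ∈ U ⊔ H → (y : Y) ∈ RGD.B cs h T X := by
    intro y hy
    have h1 : U ⊔ H ≤ (RGD.B cs h T X).subgroupOf Mi := by
      refine sup_le (fun u hu => ?_) fun t ht => ?_
      · rw [Subgroup.mem_subgroupOf]
        exact RGD.X_le_B (isRoot_sr cs h i) (sr_nonneg i) (Subgroup.mem_subgroupOf.1 hu)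
      · rw [Subgroup.mem_subgroupOf]
        exact RGD.T_le_B (Subgroup.mem_subgroupOf.1 ht)
    exact Subgroup.mem_subgroupOf.1 (h1 hy)
  have hinj : ∀ u ∈ U, k⁻¹ * u * k ∈ U ⊔ H → u = 1 := by
    intro u hu h1
    have h2 := eq_one_of_conj_mem_B R (Subgroup.mem_subgroupOf.1 hu) hgi (by
      rw [inv_inv]
      exact hB _ h1)
    exact Subtype.ext h2
  have hinj' : ∀ u ∈ U, k * u * k⁻¹ ∈ U ⊔ H → u = 1 := by
    intro u hu h1
    exact Subtype.ext (eq_one_of_conj_mem_B R (Subgroup.mem_subgroupOf.1 hu) hg (hB _ h1))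
  obtain ⟨θ, hθ, hd, hvan⟩ := exists_cusp_rankOne U H k hUp hU1 hHodd hkinv hHU hcov hinj
  have hUn : U ⊔ H ≤ Subgroup.normalizer (U : Set Mi) := sup_le Subgroup.le_normalizer hHU
  -- the centre is trivial
  have hcen : ∀ z ∈ Subgroup.center Mi, z = 1 := by
    intro z hz
    rw [Subgroup.mem_center_iff] at hz
    rcases hcov z with h1 | ⟨u, hu, b, hb, e⟩
    · have h2 : z ∈ ((U ⊔ H : Subgroup Mi) : Set Mi) := h1
      rw [Subgroup.coe_mul_of_right_le_normalizer_left _ _ hHU, Set.mem_mul] at h2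
      obtain ⟨u, hu, t, ht, e⟩ := h2
      have h3 : k * z * k⁻¹ = z := by rw [hz k, mul_inv_cancel_right]
      have h4 : k * z * k⁻¹ = (k * u * k⁻¹) * t⁻¹ := by
        rw [← e, ← hkinv t ht]
        group
      have h5 : k * u * k⁻¹ ∈ U ⊔ H := by
        have h6 : k * u * k⁻¹ = z * t := by rw [← h3, h4, inv_mul_cancel_right]
        rw [h6]
        exact mul_mem h1 (le_sup_right (a := U) ht)
      have h6 := hinj' u hu h5
      rw [h6, one_mul] at e
      rw [← e] at h3 ⊢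
      rw [hkinv t ht] at h3
      have h7 : t * t = 1 := by
        rw [← h3, inv_mul_eq_one]
        exact h3.symm ▸ rfl
      have h8 : orderOf t ∣ 2 := orderOf_dvd_of_pow_eq_one (by rw [pow_two]; exact h7)
      have h9 : orderOf t ∣ Nat.card H := by
        have := orderOf_dvd_natCard (⟨t, ht⟩ : H)
        rwa [Subgroup.orderOf_mk] at this
      have h10 : orderOf t = 1 := Nat.eq_one_of_dvd_coprimes (Nat.coprime_two_left.2 hHodd) h8 h9
      exact orderOf_eq_one_iff.1 h10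
    · exfalso
      apply hU1
      rw [eq_bot_iff]
      intro x hx
      have h2 : b * x * b⁻¹ ∈ U := (Subgroup.mem_normalizer_iff.1 (hUn hb) x).1 hx
      have h3 : k * (b * x * b⁻¹) * k⁻¹ = u⁻¹ * x * u := by
        have h4 : z * x * z⁻¹ = x := by rw [← hz x, mul_inv_cancel_right]
        rw [e] at h4
        calc k * (b * x * b⁻¹) * k⁻¹ = u⁻¹ * (u * k * b * x * (u * k * b)⁻¹) * u := by group
          _ = u⁻¹ * x * u := by rw [h4]
      have h4 := hinj' _ h2 (by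
        rw [h3]
        exact le_sup_left (b := H) (mul_mem (mul_mem (inv_mem hu) hx) hu))
      rw [mul_inv_eq_one] at h4
      exact mul_eq_left.1 h4
  refine ⟨θ, ⟨hθ, fun z hz m => ?_, ?_⟩, hd, SF.of_sq (fun g hg => sq_of_rankOne U H k hUp hU1 hHodd hHU hcov hinj
    (fun u hu => Subtype.ext (hsq u (Subgroup.mem_subgroupOf.1 hu))) hg) θ⟩
  · rw [hcen z hz, one_mul]
  · intro j hj hf
    have hji : j = i := hj
    subst hji
    have : Fintype U := Fintype.ofFinite U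
    rw [← hvan]
    have hr : rad cs h X {j} j = X (sr j) := rad_single j
    refine Fintype.sum_equiv ((MulEquiv.subgroupCongr hr).trans (Subgroup.subgroupOfEquivOfLe hX).symm).toEquiv _ _
      fun u => ?_
    rfl

theorem inv_flip {G : Type*} [Group G] {w x : G} (h : w⁻¹ * x * w = x⁻¹) : w * x * w⁻¹ = x⁻¹ := by
  calc w * x * w⁻¹ = (w * x⁻¹ * w⁻¹)⁻¹ := by group
    _ = (w * (w⁻¹ * x * w) * w⁻¹)⁻¹ := by rw [h]
    _ = x⁻¹ := by group

/-- the rank one subgroup of a node parametrised by `SL₂(F)` -/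
theorem nodeInv_of_nd (R : RGD cs h 2 T n X) [Finite Y] {i : I} {F : Type*} [Field F] [Finite F]
    [CharP F 2] {φ : Matrix.SpecialLinearGroup (Fin 2) F →* Y} (N : H619.Gow.Nd cs h T n X i φ) : NodeInv R i := by
  have hnM : n i ∈ MJ cs h X {i} := by
    rw [← H619.Gow.range_eq_MJ N R, ← N.w1]
    exact ⟨_, rfl⟩
  refine ⟨n i, hnM, rp_simple cs R.nsys i, fun t ht htM => ?_⟩
  rw [← H619.Gow.range_eq_MJ N R] at htM
  obtain ⟨s, rfl⟩ := htM
  have hX : ∀ x, IsRoot cs h x → cj (φ s) (X x) = X x := fun x hx => R.tor x hx _ ht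
  have h1 : ∃ b, s * up 1 = up b * s := by
    have h2 : φ s * φ (up 1) * (φ s)⁻¹ ∈ X (sr i) := by
      rw [← hX _ (isRoot_sr cs h i)]
      exact conj_mem_cj.2 ((N.mem_X _).2 ⟨1, rfl⟩)
    obtain ⟨b, hb⟩ := (N.mem_X _).1 h2
    refine ⟨b, N.injective R ?_⟩
    rw [map_mul, map_mul, ← hb, inv_mul_cancel_right]
  have h1' : ∃ b, s * lo 1 = lo b * s := by
    have h2 : φ s * φ (lo 1) * (φ s)⁻¹ ∈ X (-sr i) := by
      rw [← hX _ (isRoot_sr cs h i).neg]
      exact conj_mem_cj.2 ((N.mem_neg R _).2 ⟨1, rfl⟩)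
    obtain ⟨b, hb⟩ := (N.mem_neg R _).1 h2
    refine ⟨b, N.injective R ?_⟩
    rw [map_mul, map_mul, ← hb, inv_mul_cancel_right]
  obtain ⟨b, hb⟩ := h1
  obtain ⟨b', hb'⟩ := h1'
  have h3 := H619.Gow.lower_zero hb
  have h4 := H619.Gow.upper_zero hb'
  have h5 := s.2
  rw [Matrix.det_fin_two, h3, h4, mul_zero, sub_zero] at h5
  have h6 : s.1 0 0 ≠ 0 := left_ne_zero_of_mul_eq_one h5
  have h7 : s = hS (s.1 0 0) := by
    apply Subtype.ext
    rw [coe_hS h6]
    ext a c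
    fin_cases a <;> fin_cases c
    · rfl
    · exact h4
    · exact h3
    · exact eq_inv_of_mul_eq_one_right h5
  rw [h7, ← N.w1]
  have h8 := H619.Gow.wS_hS (F := F) h6
  have h9 := inv_flip h8
  rw [← map_inv, ← map_mul, ← map_mul, h9, map_inv]

/-- **Nodes parametrised by `SL₂(F)`.** -/
theorem oc_node_nd (R : RGD cs h 2 T n X) [Finite W] [Finite Y] {i : I} {F : Type*} [Field F] [Finite F]
    [CharP F 2] {φ : Matrix.SpecialLinearGroup (Fin 2) F →* Y} (N : H619.Gow.Nd cs h T n X i φ) : OC cs h X {i} := by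
  refine oc_node_inv R (nodeInv_of_nd R N) fun u hu => ?_
  obtain ⟨a, rfl⟩ := (N.mem_X _).1 hu
  rw [← map_mul, H619.Gow.up_sq, map_one]

end main

end Cfsg.Agent.H687.FourK
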