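import Cfsg.Agent.H740.K4.Four
import Cfsg.Agent.H740.K4.Equiv
import Cfsg.Agent.H621.AltChar
import Cfsg.Agent.H852.IMMathieu2
import Cfsg.Agent.S0366
import Cfsg.Agent.S0364
import Cfsg.Agent.H714.K4.Defs

/-!
# TEAM K4, sporadic row `M24` (helper687): `Good5 S`, `RowA S`

The characters `1`, `23`, `253` (the action on the 24 points is 4-transitive) and `1035` (the action of rank 3 on the
1288 pairs of complementary dodecads); `23`, `253`, `1035` are divisible by `23`.
-/

set_option autoImplicit false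

namespace Cfsg.Agent.H687.FourK.MTwentyFour

open scoped Pointwise
open Cfsg Cfsg.Agent.H740.K4 Cfsg.Agent.Characters.Core

universe u

theorem four_trans : MulAction.IsMultiplyPretransitive M24 GolayPt 4 := by
  have h5 := Cfsg.Agent.S0366.result
  apply MulAction.isMultiplyPretransitive_of_le (n := 5) (by norm_num)
  simp [Nat.card_eq_fintype_card]

theorem card_pts : Nat.card GolayPt = 24 := by
  rw [Nat.card_eq_fintype_card]
  decide +kernel

/-- the character of degree `23` -/
noncomputable def c23 (g : M24) : ℂ := (H621.AltChar.nf GolayPt g : ℂ) - 1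

/-- the character of degree `253` -/
noncomputable def c253 (g : M24) : ℂ :=
  ((H621.AltChar.nf GolayPt g : ℂ) ^ 2 - 3 * H621.AltChar.nf GolayPt g + 2 - H621.AltChar.nu GolayPt g) / 2

theorem c23_one : c23 1 = (23 : ℕ) := by
  unfold c23
  rw [H621.AltChar.nf_one, card_pts]
  norm_num

theorem c253_one : c253 1 = (253 : ℕ) := by
  unfold c253
  rw [H621.AltChar.nf_one, H621.AltChar.nu_one, card_pts]
  norm_num

theorem rat23 (g : M24) : ∃ q : ℚ, c23 g = q :=
  ⟨(H621.AltChar.nf GolayPt g : ℚ) - 1, by unfold c23; push_cast; rfl⟩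

theorem rat253 (g : M24) : ∃ q : ℚ, c253 g = q :=
  ⟨((H621.AltChar.nf GolayPt g : ℚ) ^ 2 - 3 * H621.AltChar.nf GolayPt g + 2 - H621.AltChar.nu GolayPt g) / 2, by
    unfold c253; push_cast; rfl⟩

theorem finite_M24 : Finite M24 := Nat.finite_of_card_ne_zero (by rw [Cfsg.Agent.S0364.result]; norm_num)

theorem irr23 : IsIrrCharacter M24 c23 := by
  have := finite_M24
  have := Fintype.ofFinite M24
  exact H621.AltChar.irr_one (G := M24) (Ω := GolayPt) (by rw [card_pts]; norm_num) four_trans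

theorem irr253 : IsIrrCharacter M24 c253 := by
  have := finite_M24
  have := Fintype.ofFinite M24
  exact H621.AltChar.irr_b (G := M24) (Ω := GolayPt) (by rw [card_pts]; norm_num) four_trans

/-! ### Rank 3 -/

/-- The two nontrivial constituents of a permutation character of rank 3 with different degrees are rational-valued. -/
theorem rat_of_add {G : Type*} [Group G] [Finite G] {X : Type*} [MulAction G X] {χ₁ χ₂ : IrrCharacter G}
    {f g : ℕ} (h1 : (χ₁ : G → ℂ) 1 = f) (h2 : (χ₂ : G → ℂ) 1 = g)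
    (hπ : ∀ x : G, (Nat.card (MulAction.fixedBy X x) : ℂ) = 1 + (χ₁ : G → ℂ) x + (χ₂ : G → ℂ) x)
    (hfg : f ≠ g) (x : G) : ∃ q : ℚ, (χ₂ : G → ℂ) x = q := by
  have := Fintype.ofFinite G
  rw [Cfsg.Agent.Characters.GaloisBasic.exists_rat_iff (isIrr_isCharacter χ₂.2)]
  intro m hm
  -- the powers have the same fixed points
  have hfix : ∀ y : G, (Nat.card (MulAction.fixedBy X (y ^ m)) : ℂ) = Nat.card (MulAction.fixedBy X y) := by
    intro y
    have h3 : MulAction.fixedBy X (y ^ m) = MulAction.fixedBy X y := by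
      apply Set.Subset.antisymm
      · intro z hz
        obtain ⟨k, hk⟩ : ∃ k : ℕ, (y ^ m) ^ k = y :=
          exists_pow_eq_self_of_coprime (hm.coprime_dvd_right (orderOf_dvd_natCard y))
        rw [MulAction.mem_fixedBy] at hz ⊢
        rw [← hk]
        exact MulAction.mem_stabilizer_iff.1 ((MulAction.stabilizer G z).pow_mem (MulAction.mem_stabilizer_iff.2 hz) k)
      · intro z hz
        rw [MulAction.mem_fixedBy] at hz ⊢
        exact MulAction.mem_stabilizer_iff.1 ((MulAction.stabilizer G z).pow_mem (MulAction.mem_stabilizer_iff.2 hz) m)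
    rw [h3]
  have h1' := Cfsg.Agent.Characters.GaloisIrr.isIrr_pow hm χ₁.2
  have h2' := Cfsg.Agent.Characters.GaloisIrr.isIrr_pow hm χ₂.2
  set ψ₁ : G → ℂ := fun y => (χ₁ : G → ℂ) (y ^ m) with hψ₁
  set ψ₂ : G → ℂ := fun y => (χ₂ : G → ℂ) (y ^ m) with hψ₂
  have hsum : ψ₁ + ψ₂ = (χ₁ : G → ℂ) + (χ₂ : G → ℂ) := by
    funext y
    have h3 := hfix y
    rw [hπ, hπ] at h3
    show (χ₁ : G → ℂ) (y ^ m) + (χ₂ : G → ℂ) (y ^ m) = (χ₁ : G → ℂ) y + (χ₂ : G → ℂ) y
    linear_combination h3
  by_contra hne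
  have hne' : (χ₂ : G → ℂ) ≠ ψ₂ := fun h => hne (congrFun h x).symm
  have e1 : ψ₁ 1 = f := by simp [hψ₁, h1]
  have e2 : ψ₂ 1 = g := by simp [hψ₂, h2]
  have hfg' : (f : ℂ) ≠ g := fun h => hfg (by exact_mod_cast h)
  have n1 : ψ₁ ≠ ψ₂ := fun h => hfg' (by rw [← e1, ← e2, h])
  have n2 : (χ₁ : G → ℂ) ≠ ψ₂ := fun h => hfg' (by rw [← h1, ← e2, h])
  have h4 := congrArg (fun φ => classInner φ ψ₂) hsum
  simp only [classInner_add_left] at h4
  rw [classInner_irr_ne h1' h2' n1, classInner_irr_self h2', classInner_irr_ne χ₁.2 h2' n2,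
    classInner_irr_ne χ₂.2 h2' hne'] at h4
  norm_num at h4

theorem arith {f g D : ℕ} (h1 : f + g = 495 + 792) (h4 : f * g * D = (1 + 495 + 792) * 495 * 792)
    (h3 : f ≠ g → IsSquare D) : f = 1035 ∨ g = 1035 := by
  have key : ∀ f < 1288, f * (1287 - f) ∣ 504947520 → f * (1287 - f) ≠ 0 →
      Nat.sqrt (504947520 / (f * (1287 - f))) ^ 2 = 504947520 / (f * (1287 - f)) → f = 1035 ∨ f = 252 := by
    decide +kernel
  have hne : f ≠ g := by omega
  obtain ⟨r, hr⟩ := h3 hne
  have hg : g = 1287 - f := by omega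
  have hN : f * g * D = 504947520 := by rw [h4]
  have h0 : f * g ≠ 0 := by
    intro h
    rw [h, zero_mul] at hN
    norm_num at hN
  have hD : 504947520 / (f * g) = D := by
    rw [← hN]
    exact Nat.mul_div_cancel_left D (Nat.pos_of_ne_zero h0)
  have h5 := key f (by omega) (by rw [← hg, ← hN]; exact Dvd.intro _ rfl) (by rw [← hg]; exact h0) (by
    rw [← hg, hD, hr, Nat.sqrt_eq, pow_two])
  omega

theorem exists_1035 : ∃ χ : M24 → ℂ, IsIrrCharacter M24 χ ∧ χ 1 = (1035 : ℕ) ∧ ∀ g, ∃ q : ℚ, χ g = q := by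
  classical
  have := finite_M24
  let _ := H852.IMMathieu.actSub (G := M24) H852.IMMathieu.XD H852.IMMathieu.hXD
  have hr3 := H852.IMMathieu.r3_m24
  have hfin : Finite H852.IMMathieu.XD := Nat.finite_of_card_ne_zero (by rw [hr3.cardn]; norm_num)
  have := Fintype.ofFinite H852.IMMathieu.XD
  obtain ⟨χ₁, χ₂, f, g, D, h1, h2, hπ, h3, h4, h5⟩ := hr3.frame
  rcases arith h3 h4 h5 with h6 | h6
  · refine ⟨χ₁, χ₁.2, by rw [h1, h6], fun x => rat_of_add (X := H852.IMMathieu.XD) h2 h1 (fun y => ?_) (by omega) x⟩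
    rw [hπ]
    ring
  · exact ⟨χ₂, χ₂.2, by rw [h2, h6], fun x => rat_of_add (X := H852.IMMathieu.XD) h1 h2 hπ (by omega) x⟩

/-- **`M24`** -/
theorem good5_model : H601.K4.Good5 M24 := by
  have := finite_M24
  obtain ⟨χ, hχ, hχ1, hχq⟩ := exists_1035
  refine good5_of_defect_zero (p := 23) (n := 1) (by rw [Cfsg.Agent.S0364.result]; decide) (by norm_num) (by decide) one_ne_zero
    (by rw [Cfsg.Agent.S0364.result]; norm_num) (by rw [Cfsg.Agent.S0364.result]; norm_num)
    (χ := ![c23, c253, χ]) (d := ![23, 253, 1035]) ?_ ?_ ?_ ?_ ?_ ?_ ?_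
  · intro i
    fin_cases i
    · exact irr23
    · exact irr253
    · exact hχ
  · intro i
    fin_cases i
    · exact c23_one
    · exact c253_one
    · exact hχ1
  · intro i g
    fin_cases i
    · exact rat23 g
    · exact rat253 g
    · exact hχq g
  · intro i
    fin_cases i <;> decide
  · intro i
    fin_cases i <;> decide
  · intro i
    fin_cases i <;> decide
  · decide

/-- **`M24`, row (A) of S4547** -/
theorem good5 {S : Type u} [Group S] (h : Spor.IsoM24 S) : H601.K4.Good5 S := by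
  obtain ⟨e⟩ := h
  exact good5_of_equiv e good5_model

theorem odd5 {S : Type u} [Group S] (h : Spor.IsoM24 S) : H601.K4.Odd5 S := (good5 h).odd5

theorem five_le {S : Type u} [Group S] (h : Spor.IsoM24 S) : 5 ≤ H714.K4.k0 S := by
  obtain ⟨χ, hinj, hχ⟩ := odd5 h
  obtain ⟨e⟩ := h
  have := finite_M24
  have : Finite S := Finite.of_equiv _ e.symm.toEquiv
  classical
  have hs : 5 ≤ (Finset.univ.image χ).card := by
    rw [Finset.card_image_of_injective _ hinj, Finset.card_univ, Fintype.card_fin]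
  rw [H714.K4.k0_eq]
  refine hs.trans ?_
  rw [← Set.ncard_coe_finset]
  refine Set.ncard_le_ncard (fun ψ hψ => ?_) (H714.K4.odd_finite S)
  rw [Finset.mem_coe, Finset.mem_image] at hψ
  obtain ⟨i, -, rfl⟩ := hψ
  exact hχ i

/-- **`M24`, row (A) of S4947** -/
theorem rowA {S : Type u} [Group S] (h : Spor.IsoM24 S) : H714.K4.RowA S := Or.inr (five_le h)

end Cfsg.Agent.H687.FourK.MTwentyFour
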