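import Cfsg.Agent.H687.FourK.Split
import Cfsg.Agent.Nodes.WittInst
import Cfsg.Agent.KFacts.Mult.WittA
import Cfsg.Agent.KFacts.RgdFilt
import Cfsg.Agent.Mrg.Omega.ML.Ex.Typ.List

/-!
# The symplectic groups in characteristic two: the torus and the nodes (helper687, TEAM K4)

`Y = isos (form m F)` (isomorphic to `PSp_{2m}(F)`, `F` of characteristic two).

* `rgdY`, `GG_top` : the root group datum;
* `exists_ev` : the eigenvalue characters of the torus; `ev_ng`, `ev_cv`, `ext_ev`, `exists_tor`, `comm`;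
* `nodeInv_last` : the last node; `nodeInv_zero` : the node `0` for `m = 2`;
* `good5_Sp4` : `Good5` for `PSp₄(q)`, `q > 2` even.
-/

set_option autoImplicit false
set_option linter.unusedSectionVars false

open scoped ComplexConjugate
open Cfsg

namespace Cfsg.Agent.H687.FourK.Sp

open CoxeterSystem Cfsg.Agent.ChevalleyStructure.CoxeterGeom Cfsg.Agent.Tits.Roots Cfsg.Agent.Nodes.TypeC
open Cfsg.Agent.Nodes Cfsg.Agent.Nodes.Comb Cfsg.Agent.Nodes.Reps Cfsg.Agent.Nodes.WittRoot Cfsg.Agent.Nodes.BNOf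
open Cfsg.Agent.Nodes.WittRGD Cfsg.Agent.Nodes.RGDLib Cfsg.Agent.Nodes.WittAll
open Cfsg.Agent.Nodes.LeviDec Cfsg.Agent.H53.HC Cfsg.Agent.Nodes.Bruhat Cfsg.Agent.KFacts.RgdAut
open Cfsg.Agent.TitsThree Cfsg.Agent.TitsThree.Siegel Cfsg.Agent.TitsThree.WittFrame
  Cfsg.Agent.TitsThree.WittWeyl Cfsg.Agent.TitsThree.SpIdent
open Cfsg.Agent.H619.Gow (cv coe_cv)
open Cfsg.Agent.H967.K4 (OC)

universe u

section

variable (m : ℕ) (F : Type u) [Field F]

/-- the space -/
abbrev V : Type u := Fin m ⊕ Fin m → F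

/-- the group of isometries -/
abbrev Y : Type u := ↥(isos (form m F))

/-- the torus -/
def TT : Subgroup (Y m F) := (Tor (frame m F) (isos (form m F))).subgroupOf (isos (form m F))

/-- the root groups -/
def XX (x : Fin m → ℤ) : Subgroup (Y m F) := (rg (frame m F) x).subgroupOf (isos (form m F))

end

section

variable {m : ℕ} {F : Type u} [Field F] [Finite F] [CharP F 2]

theorem hA2 : AmbT (frame m F) 2 (isos (form m F)) := by
  have : Fact (Nat.Prime 2) := ⟨Nat.prime_two⟩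
  exact AmbT.of_amb Cfsg.Agent.Nodes.WittU.amb_Sp 2

/-- the Weyl elements -/
noncomputable def nY (m : ℕ) (F : Type u) [Field F] [Finite F] [CharP F 2] (i : Fin m) : Y m F :=
  ⟨nn (frame m F) (adm 1) i, Cfsg.Agent.Nodes.WittAll.nn_mem hA2 _ i⟩

theorem c_ne : (adm (m := m) (1 : F)).c ≠ 0 := one_ne_zero

theorem rgdY {W : Type*} [Group W] (cs : CoxeterSystem (CoxeterMatrix.B m) W) :
    RGD cs (isCartan m) 2 (TT m F) (nY m F) (XX m F) := by
  have : Fact (Nat.Prime 2) := ⟨Nat.prime_two⟩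
  exact rgd_restrict (rgdC hA2 c_ne cs) (isos (form m F)) (fun x _ => hA2.rg_le x)
    (fun i => Cfsg.Agent.Nodes.WittAll.nn_mem hA2 _ i)

theorem toPSp_inj : Function.Injective (toPSp (m := m) (F := F)) := by
  rw [injective_iff_map_eq_one]
  intro g hg
  obtain ⟨a, ha, hv⟩ := exists_smul_of_toPSp_eq_one hg
  have h1 : (a - 1) ^ 2 = 0 := by
    have h2 : (2 : F) = 0 := CharTwo.two_eq_zero
    linear_combination ha + (1 - a) * h2
  have h3 : a = 1 := sub_eq_zero.1 (pow_eq_zero_iff two_ne_zero |>.1 h1)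
  apply Subtype.ext
  ext1 v
  rw [hv v, h3, one_smul]
  rfl

/-- the isomorphism with `PSp` -/
noncomputable def eqv : Y m F ≃* PSp m F := MulEquiv.ofBijective toPSp ⟨toPSp_inj, toPSp_surjective⟩

theorem G1_top (hm : 0 < m) {W : Type*} [Group W] (cs : CoxeterSystem (CoxeterMatrix.B m) W) :
    G1 cs (isCartan m) (XX m F) = ⊤ := by
  have h1 := WittModel.G1_eq_top (KInstSp.model m F) hm cs
  have h2 : G1 cs (isCartan m) (WittModel.X (KInstSp.model m F)) =
      (G1 cs (isCartan m) (XX m F)).map (toPSp (m := m) (F := F)) := by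
    unfold G1 RGD.Sup
    rw [Subgroup.map_iSup]
    rfl
  rw [h2] at h1
  rw [eq_top_iff]
  intro g _
  have h3 : toPSp g ∈ (G1 cs (isCartan m) (XX m F)).map (toPSp (m := m) (F := F)) := by
    rw [h1]
    exact Subgroup.mem_top _
  obtain ⟨k, hk, e⟩ := h3
  rwa [← toPSp_inj e]

theorem GG_top (hm : 0 < m) {W : Type*} [Group W] (cs : CoxeterSystem (CoxeterMatrix.B m) W) :
    GG cs (isCartan m) (TT m F) (XX m F) = ⊤ :=
  Cfsg.Agent.KFacts.RgdFilt.GG_eq_top (G1_top hm cs)

/-- **the eigenvalues** -/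
theorem exists_ev (x : Fin m × Bool) : ∃ ℓ : TT m F →* Fˣ, ∀ t : TT m F,
    (t : Y m F).1 ((frame m F).b x) = ((ℓ t : Fˣ) : F) • (frame m F).b x := by
  have h1 : ∀ t : TT m F, ∃ l : Fˣ, (t : Y m F).1 ((frame m F).b x) = (l : F) • (frame m F).b x := by
    intro t
    obtain ⟨l, hl, e⟩ := ((mem_Tor _ _).1 (Subgroup.mem_subgroupOf.1 t.2)).2 x
    exact ⟨Units.mk0 l hl, e⟩
  choose l hl using h1
  have hcan : ∀ a b : Fˣ, (a : F) • (frame m F).b x = (b : F) • (frame m F).b x → a = b := fun a b hab =>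
    Units.ext (smul_left_injective F (b_ne_zero x) hab)
  refine ⟨⟨⟨l, hcan _ _ ?_⟩, fun s t => hcan _ _ ?_⟩, hl⟩
  · rw [← hl, Units.val_one, one_smul]
    rfl
  · rw [← hl, Units.val_mul, mul_comm, mul_smul, ← hl s, ← map_smul, ← hl t]
    rfl

/-- the eigenvalue characters -/
noncomputable def ev (x : Fin m × Bool) : TT m F →* Fˣ := (exists_ev x).choose

theorem ev_spec (x : Fin m × Bool) (t : TT m F) :
    (t : Y m F).1 ((frame m F).b x) = ((ev x t : Fˣ) : F) • (frame m F).b x := (exists_ev x).choose_spec t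

theorem ev_unique {x : Fin m × Bool} {t : TT m F} {l : Fˣ}
    (hl : (t : Y m F).1 ((frame m F).b x) = (l : F) • (frame m F).b x) : ev x t = l :=
  Units.ext (smul_left_injective F (b_ne_zero x) ((ev_spec x t).symm.trans hl))

theorem ev_ng (x : Fin m × Bool) (t : TT m F) : ev (ng x) t = (ev x t)⁻¹ := by
  rw [eq_inv_iff_mul_eq_one]
  have h1 : (form m F).h ((t : Y m F).1 ((frame m F).b (ng x))) ((t : Y m F).1 ((frame m F).b x)) =
      (form m F).h ((frame m F).b (ng x)) ((frame m F).b x) := (t : Y m F).2 _ _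
  have h2 : (form m F).h ((frame m F).b (ng x)) ((frame m F).b x) ≠ 0 := by
    have := (frame m F).hb_neg_self x
    rw [show ng x = neg x from rfl, this]
    exact (frame m F).η_ne x
  rw [ev_spec, ev_spec, HForm.smul_left, HForm.smul_right, form_σ, ← mul_assoc] at h1
  apply Units.ext
  rw [Units.val_mul, Units.val_one]
  exact mul_right_cancel₀ h2 (h1.trans (one_mul _).symm)

/-- the action of the Weyl elements -/
theorem ev_cv (R : NSys (CoxeterMatrix.B m) (TT m F) (nY m F)) (i : Fin m) (x : Fin m × Bool) (t : TT m F) :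
    ev x (cv (TT m F) (R.norm i) t) = ev (sg i x) t := by
  apply ev_unique
  obtain ⟨l, hl, e⟩ := mono_nn (Fr := frame m F) (p0 := adm (1 : F)) c_ne i x
  show (nY m F i)⁻¹.1 ((t : Y m F).1 ((nY m F i).1 ((frame m F).b x))) = _
  have e' : (nY m F i).1 ((frame m F).b x) = l • (frame m F).b (sg i x) := e
  rw [e', map_smul, ev_spec, smul_comm, ← e', map_smul]
  congr 1
  show ((nY m F i)⁻¹ * nY m F i).1 ((frame m F).b x) = _
  rw [inv_mul_cancel]
  rfl

theorem ext_ev {s t : TT m F} (h : ∀ i, ev (i, true) s = ev (i, true) t) : s = t := by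
  have h1 : ∀ x, ev x s = ev x t := by
    rintro ⟨i, b⟩
    cases b
    · have e : ((i, false) : Fin m × Bool) = ng (i, true) := rfl
      rw [e, ev_ng, ev_ng, h]
    · exact h i
  have h2 : s * t⁻¹ = 1 := by
    apply Subtype.ext
    apply Subtype.ext
    refine Cfsg.Agent.Nodes.WittRGD.Amb.eq_one_of_fix (Fr := frame m F) (G0 := isos (form m F))
      Cfsg.Agent.Nodes.WittU.amb_Sp (fun x => ?_) fun w hw => ?_
    · have h3 := ev_spec x (s * t⁻¹)
      rw [map_mul, map_inv, h1, mul_inv_cancel, Units.val_one, one_smul] at h3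
      exact h3
    · have hw0 : w = 0 := (Submodule.mem_bot F).1 hw
      rw [hw0, map_zero]
  exact mul_inv_eq_one.1 h2

theorem comm : ∀ x ∈ TT m F, ∀ y ∈ TT m F, x * y = y * x := by
  intro x hx y hy
  have h1 : (⟨x, hx⟩ : TT m F) * ⟨y, hy⟩ = ⟨y, hy⟩ * ⟨x, hx⟩ := ext_ev fun i => by
    rw [map_mul, map_mul, mul_comm]
  exact congrArg Subtype.val h1

/-- elements of the torus with one given eigenvalue -/
theorem exists_tor_one (i : Fin m) (l : Fˣ) : ∃ t : TT m F, ev (i, true) t = l ∧ ∀ j, j ≠ i → ev (j, true) t = 1 := by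
  have : Finite (V m F) := inferInstanceAs (Finite (Fin m ⊕ Fin m → F))
  have hT := Cfsg.Agent.KFacts.Mult.WittA.torT_of_ambT (Fr := frame m F) hA2 (p0 := adm (1 : F)) c_ne
  obtain ⟨a, ha⟩ : ∃ a : F, a * a = l := by
    obtain ⟨a, ha⟩ := H619.Gow.exists_sq (l : F)
    exact ⟨a, ha.symm⟩
  have ha0 : a ≠ 0 := by
    rintro rfl
    rw [mul_zero] at ha
    exact l.ne_zero ha.symm
  have hE := Cfsg.Agent.KFacts.Mult.WittW.eig_ts hT c_ne (fun v h => Cfsg.Agent.Nodes.WittU.amb_Sp.V0 v h) i ha0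
    (l := (l : F)) (by rw [form_σ]; exact ha) (form_σ _)
  have hmem : Cfsg.Agent.KFacts.Mult.WittW.ts (Fr := frame m F) (adm (1 : F)) i a ∈ isos (form m F) := hE.iso
  have hTor : (⟨_, hmem⟩ : Y m F) ∈ TT m F := by
    rw [TT, Subgroup.mem_subgroupOf, mem_Tor]
    refine ⟨hmem, fun x => ⟨_, ?_, hE.ap x⟩⟩
    split_ifs
    · exact l.ne_zero
    · exact inv_ne_zero l.ne_zero
    · exact one_ne_zero
  refine ⟨⟨_, hTor⟩, ev_unique ?_, fun j hj => ev_unique ?_⟩
  · have := hE.ap (i, true)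
    rw [if_pos rfl] at this
    exact this
  · have := hE.ap (j, true)
    rw [if_neg (by simpa using hj), if_neg (by simp)] at this
    exact this

/-! ### nodes -/

/-- the stabiliser of a vector -/
def fixV (v : V m F) : Subgroup (Y m F) where
  carrier := {g | g.1 v = v}
  one_mem' := rfl
  mul_mem' {a b} ha hb := by
    show a.1 (b.1 v) = v
    rw [show b.1 v = v from hb]
    exact ha
  inv_mem' {a} ha := by
    show (a⁻¹).1 v = v
    conv_lhs => rw [← (show a.1 v = v from ha)]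
    show (a⁻¹ * a).1 v = v
    rw [inv_mul_cancel]
    rfl

theorem mem_XX_last {i : Fin m} (hi : ¬ (i : ℕ) + 1 < m) {g : Y m F} (hg : g ∈ XX m F (sr i)) :
    ∃ p, g.1 = (frame m F).Z (i, true) p := by
  have h1 : g.1 ∈ rg (frame m F) (sr i) := Subgroup.mem_subgroupOf.1 hg
  have hnx : nx i = (i, true) := by unfold nx; rw [dif_neg hi]
  rw [rg_sr, hnx, PG_self] at h1
  exact h1

theorem mem_XX_last' {i : Fin m} (hi : ¬ (i : ℕ) + 1 < m) {g : Y m F} (hg : g ∈ XX m F (-sr i)) :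
    ∃ p, g.1 = (frame m F).Z (i, false) p := by
  have h1 : g.1 ∈ rg (frame m F) (-sr i) := Subgroup.mem_subgroupOf.1 hg
  have hnx : nx i = (i, true) := by unfold nx; rw [dif_neg hi]
  rw [rg_neg_sr, hnx, PG_self] at h1
  exact h1

/-- inversion from the eigenvalues -/
theorem inv_of_ev {W : Type*} [Group W] {cs : CoxeterSystem (CoxeterMatrix.B m) W} (R : RGD cs (isCartan m) 2 (TT m F)
    (nY m F) (XX m F)) {i : Fin m} {t : Y m F} (ht : t ∈ TT m F)
    (h : ∀ x, ev (sg i x) ⟨t, ht⟩ = (ev x ⟨t, ht⟩)⁻¹) : nY m F i * t * (nY m F i)⁻¹ = t⁻¹ := by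
  have h1 : cv (TT m F) (R.nsys.norm i) ⟨t, ht⟩ = (⟨t, ht⟩ : TT m F)⁻¹ := ext_ev fun j => by
    rw [ev_cv R.nsys, h, map_inv]
  have h2 : (nY m F i)⁻¹ * t * nY m F i = t⁻¹ := congrArg Subtype.val h1
  exact inv_flip h2

theorem nodeInv_last {W : Type*} [Group W] {cs : CoxeterSystem (CoxeterMatrix.B m) W}
    (R : RGD cs (isCartan m) 2 (TT m F) (nY m F) (XX m F)) {i : Fin m} (hi : ¬ (i : ℕ) + 1 < m) : NodeInv R i := by
  refine NodeInv.of_comm R comm fun t ht htM => inv_of_ev R ht fun x => ?_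
  by_cases hx : x.1 = i
  · have e : sg i x = ng x := by
      obtain ⟨j, b⟩ := x
      have hj : j = i := hx
      subst hj
      exact sg_last hi b
    rw [e, ev_ng]
  · have e : sg i x = x := sg_of_ne hx (fun h' => by have := x.1.2; omega)
    have h1 : t ∈ fixV ((frame m F).b x) := by
      rw [H619.Gow.MJ_single] at htM
      refine (sup_le (fun g hg => ?_) fun g hg => ?_ : XX m F (sr i) ⊔ XX m F (-sr i) ≤ fixV ((frame m F).b x)) htM
      · obtain ⟨p, hp⟩ := mem_XX_last hi hg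
        show g.1 _ = _
        rw [hp]
        exact Z_apply_of_ne (frame m F) (fun h' => hx (by rw [h']; rfl)) p
      · obtain ⟨p, hp⟩ := mem_XX_last' hi hg
        show g.1 _ = _
        rw [hp]
        exact Z_apply_of_ne (frame m F) (fun h' => hx (by rw [h']; rfl)) p
    have h2 : ev x ⟨t, ht⟩ = 1 := ev_unique (by
      rw [Units.val_one, one_smul]
      exact h1)
    rw [e, h2, inv_one]

theorem sq_last {i : Fin m} (hi : ¬ (i : ℕ) + 1 < m) : ∀ g ∈ XX m F (sr i), g * g = 1 := by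
  intro g hg
  obtain ⟨p, hp⟩ := mem_XX_last hi hg
  apply Subtype.ext
  show g.1 * g.1 = 1
  rw [hp, ← Frame.Z_mul]
  have h1 : p * p = 1 := by
    rw [eq_adm p, ← adm_add, CharTwo.add_self_eq_zero]
    rfl
  rw [h1, Frame.Z_one]

/-- **The last node.** -/
theorem oc_last {W : Type*} [Group W] [Finite W] {cs : CoxeterSystem (CoxeterMatrix.B m) W}
    (R : RGD cs (isCartan m) 2 (TT m F) (nY m F) (XX m F)) {i : Fin m} (hi : ¬ (i : ℕ) + 1 < m) :
    OC cs (isCartan m) (XX m F) {i} := by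
  have : Finite (V m F) := inferInstanceAs (Finite (Fin m ⊕ Fin m → F))
  have : Finite (V m F ≃ₗ[F] V m F) :=
    Finite.of_injective (fun g : V m F ≃ₗ[F] V m F => (g : V m F → V m F)) DFunLike.coe_injective
  exact oc_node_inv R (nodeInv_last R hi) (sq_last hi)

end

section four

variable {F : Type u} [Field F] [Finite F] [CharP F 2]

/-- the elements acting on the plane `⟨b (0, true), b (1, true)⟩` with determinant one -/
def detK (F : Type u) [Field F] : Subgroup (Y 2 F) where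
  carrier := {g | ∃ A : Matrix.SpecialLinearGroup (Fin 2) F,
    g.1 ((frame 2 F).b (0, true)) = A.1 0 0 • (frame 2 F).b (0, true) + A.1 1 0 • (frame 2 F).b (1, true) ∧
    g.1 ((frame 2 F).b (1, true)) = A.1 0 1 • (frame 2 F).b (0, true) + A.1 1 1 • (frame 2 F).b (1, true)}
  one_mem' := ⟨1, by
    rw [Matrix.SpecialLinearGroup.coe_one, Matrix.one_fin_two]
    constructor
    · show (frame 2 F).b (0, true) = (1 : F) • _ + (0 : F) • _
      rw [one_smul, zero_smul, add_zero]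
    · show (frame 2 F).b (1, true) = (0 : F) • _ + (1 : F) • _
      rw [one_smul, zero_smul, zero_add]⟩
  mul_mem' := by
    rintro g k ⟨A, h1, h2⟩ ⟨B, h3, h4⟩
    refine ⟨A * B, ?_, ?_⟩
    · show g.1 (k.1 _) = _
      rw [h3, map_add, map_smul, map_smul, h1, h2, Matrix.SpecialLinearGroup.coe_mul, Matrix.mul_apply,
        Matrix.mul_apply, Fin.sum_univ_two, Fin.sum_univ_two]
      module
    · show g.1 (k.1 _) = _
      rw [h4, map_add, map_smul, map_smul, h1, h2, Matrix.SpecialLinearGroup.coe_mul, Matrix.mul_apply,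
        Matrix.mul_apply, Fin.sum_univ_two, Fin.sum_univ_two]
      module
  inv_mem' := by
    rintro g ⟨A, h1, h2⟩
    have hinv : ∀ v w : V 2 F, g.1 v = w → (g⁻¹).1 w = v := by
      rintro v _ rfl
      show (g⁻¹ * g).1 v = v
      rw [inv_mul_cancel]
      rfl
    have hdet : A.1 0 0 * A.1 1 1 - A.1 0 1 * A.1 1 0 = 1 := by
      rw [← Matrix.det_fin_two]
      exact A.2
    refine ⟨A⁻¹, hinv _ _ ?_, hinv _ _ ?_⟩
    · rw [map_add, map_smul, map_smul, h1, h2, Matrix.SpecialLinearGroup.SL2_inv_expl]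
      show (A.1 1 1) • _ + (-A.1 1 0) • _ = _
      have e : (A.1 1 1) • ((A.1 0 0) • (frame 2 F).b (0, true) + (A.1 1 0) • (frame 2 F).b (1, true)) +
          (-A.1 1 0) • ((A.1 0 1) • (frame 2 F).b (0, true) + (A.1 1 1) • (frame 2 F).b (1, true)) =
          (A.1 0 0 * A.1 1 1 - A.1 0 1 * A.1 1 0) • (frame 2 F).b (0, true) := by module
      rw [e, hdet, one_smul]
    · rw [map_add, map_smul, map_smul, h1, h2, Matrix.SpecialLinearGroup.SL2_inv_expl]
      show (-A.1 0 1) • _ + (A.1 0 0) • _ = _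
      have e : (-A.1 0 1) • ((A.1 0 0) • (frame 2 F).b (0, true) + (A.1 1 0) • (frame 2 F).b (1, true)) +
          (A.1 0 0) • ((A.1 0 1) • (frame 2 F).b (0, true) + (A.1 1 1) • (frame 2 F).b (1, true)) =
          (A.1 0 0 * A.1 1 1 - A.1 0 1 * A.1 1 0) • (frame 2 F).b (1, true) := by module
      rw [e, hdet, one_smul]

theorem mem_XX_zero {g : Y 2 F} (hg : g ∈ XX 2 F (sr 0)) : ∃ t, g.1 = (frame 2 F).X (0, true) (1, false) t := by
  have h1 : g.1 ∈ rg (frame 2 F) (sr 0) := Subgroup.mem_subgroupOf.1 hg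
  have hnx : nx (0 : Fin 2) = (1, false) := by decide
  rw [rg_sr, hnx, PG_ne _ (by decide)] at h1
  exact h1

theorem mem_XX_zero' {g : Y 2 F} (hg : g ∈ XX 2 F (-sr 0)) : ∃ t, g.1 = (frame 2 F).X (0, false) (1, true) t := by
  have h1 : g.1 ∈ rg (frame 2 F) (-sr 0) := Subgroup.mem_subgroupOf.1 hg
  have hnx : nx (0 : Fin 2) = (1, false) := by decide
  rw [rg_neg_sr, hnx, PG_ne _ (by decide)] at h1
  exact h1

theorem XX_zero_le : XX 2 F (sr 0) ≤ detK F := by
  intro g hg
  obtain ⟨t, ht⟩ := mem_XX_zero hg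
  refine ⟨⟨!![1, t; 0, 1], by rw [Matrix.det_fin_two_of]; ring⟩, ?_, ?_⟩
  · rw [ht, X_apply_of_ne (frame 2 F) (by decide) (by decide) (by decide)]
    show _ = (1 : F) • _ + (0 : F) • _
    rw [one_smul, zero_smul, add_zero]
  · rw [ht]
    have h1 := X_apply_neg (frame 2 F) (x := ((0 : Fin 2), true)) (y := ((1 : Fin 2), false)) (by decide) t
    have e : neg ((1 : Fin 2), false) = ((1 : Fin 2), true) := rfl
    rw [e] at h1
    rw [h1]
    show _ = t • _ + (1 : F) • _
    rw [one_smul, add_comm]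

theorem XX_zero_le' : XX 2 F (-sr 0) ≤ detK F := by
  intro g hg
  obtain ⟨t, ht⟩ := mem_XX_zero' hg
  have h1 := X_apply_neg' (frame 2 F) (x := ((0 : Fin 2), false)) (y := ((1 : Fin 2), true)) (by decide) t
  have e : neg ((0 : Fin 2), false) = ((0 : Fin 2), true) := rfl
  rw [e] at h1
  generalize ((form 2 F).ε⁻¹ * (frame 2 F).η (0, false) * (frame 2 F).η (1, true) * (form 2 F).σ t) = c at h1
  refine ⟨⟨!![1, 0; -c, 1], by rw [Matrix.det_fin_two_of]; ring⟩, ?_, ?_⟩
  · rw [ht, h1]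
    show _ = (1 : F) • _ + (-c) • _
    rw [one_smul, neg_smul, sub_eq_add_neg]
  · rw [ht, X_apply_of_ne (frame 2 F) (by decide) (by decide) (by decide)]
    show _ = (0 : F) • _ + (1 : F) • _
    rw [one_smul, zero_smul, zero_add]

/-- **The node `0`.** -/
theorem ev_mul_of_detK {t : Y 2 F} (ht : t ∈ TT 2 F) (hK : t ∈ detK F) :
    ev (0, true) ⟨t, ht⟩ * ev (1, true) ⟨t, ht⟩ = 1 := by
  obtain ⟨A, h1, h2⟩ := hK
  have e0 : (form 2 F).h ((frame 2 F).b (0, false)) ((frame 2 F).b (0, true)) ≠ 0 := by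
    have := (frame 2 F).hb_neg_self (0, true)
    rw [show ((0 : Fin 2), false) = neg (0, true) from rfl, this]
    exact (frame 2 F).η_ne _
  have e1 : (form 2 F).h ((frame 2 F).b (1, false)) ((frame 2 F).b (1, true)) ≠ 0 := by
    have := (frame 2 F).hb_neg_self (1, true)
    rw [show ((1 : Fin 2), false) = neg (1, true) from rfl, this]
    exact (frame 2 F).η_ne _
  have e2 : (form 2 F).h ((frame 2 F).b (0, false)) ((frame 2 F).b (1, true)) = 0 :=
    (frame 2 F).hb_of_ne (by decide)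
  have e3 : (form 2 F).h ((frame 2 F).b (1, false)) ((frame 2 F).b (0, true)) = 0 :=
    (frame 2 F).hb_of_ne (by decide)
  have s0 := ev_spec (0, true) ⟨t, ht⟩
  have s1 := ev_spec (1, true) ⟨t, ht⟩
  have f0 := s0.symm.trans h1
  have f1 := s1.symm.trans h2
  have g0 := congrArg ((form 2 F).h ((frame 2 F).b (0, false))) f0
  have g1 := congrArg ((form 2 F).h ((frame 2 F).b (1, false))) f1
  have g2 := congrArg ((form 2 F).h ((frame 2 F).b (0, false))) f1
  rw [HForm.smul_right, HForm.add_right, HForm.smul_right, HForm.smul_right, e2, mul_zero, add_zero] at g0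
  rw [HForm.smul_right, HForm.add_right, HForm.smul_right, HForm.smul_right, e3, mul_zero, zero_add] at g1
  rw [HForm.smul_right, HForm.add_right, HForm.smul_right, HForm.smul_right, e2, mul_zero, mul_zero, add_zero] at g2
  have hdet : A.1 0 0 * A.1 1 1 - A.1 0 1 * A.1 1 0 = 1 := by
    rw [← Matrix.det_fin_two]
    exact A.2
  have a0 : ((ev (0, true) ⟨t, ht⟩ : Fˣ) : F) = A.1 0 0 := mul_right_cancel₀ e0 g0
  have a1 : ((ev (1, true) ⟨t, ht⟩ : Fˣ) : F) = A.1 1 1 := mul_right_cancel₀ e1 g1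
  have a2 : A.1 0 1 = 0 := by
    rcases mul_eq_zero.1 g2.symm with h | h
    · exact h
    · exact absurd h e0
  rw [← a0, ← a1, a2, zero_mul, sub_zero] at hdet
  apply Units.ext
  rw [Units.val_mul, Units.val_one]
  exact hdet

theorem nodeInv_zero {W : Type*} [Group W] {cs : CoxeterSystem (CoxeterMatrix.B 2) W}
    (R : RGD cs (isCartan 2) 2 (TT 2 F) (nY 2 F) (XX 2 F)) : NodeInv R (0 : Fin 2) := by
  refine NodeInv.of_comm R comm fun t ht htM => inv_of_ev R ht fun x => ?_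
  have h1 : t ∈ detK F := by
    rw [H619.Gow.MJ_single] at htM
    exact (sup_le XX_zero_le XX_zero_le') htM
  have h2 := ev_mul_of_detK ht h1
  have h3 : ev (1, true) ⟨t, ht⟩ = (ev (0, true) ⟨t, ht⟩)⁻¹ := eq_inv_of_mul_eq_one_right h2
  have e0 : ∀ b, sg (0 : Fin 2) (0, b) = (1, b) := fun b => by cases b <;> decide
  have e1 : ∀ b, sg (0 : Fin 2) (1, b) = (0, b) := fun b => by cases b <;> decide
  have n0 : ((0 : Fin 2), false) = ng (0, true) := rfl
  have n1 : ((1 : Fin 2), false) = ng (1, true) := rfl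
  obtain ⟨j, b⟩ := x
  fin_cases j
  · show ev (sg 0 (0, b)) _ = _
    rw [e0]
    cases b
    · show ev (1, false) _ = (ev (0, false) _)⁻¹
      rw [n0, n1, ev_ng, ev_ng, h3]
    · exact h3
  · show ev (sg 0 (1, b)) _ = _
    rw [e1]
    cases b
    · show ev (0, false) _ = (ev (1, false) _)⁻¹
      rw [n0, n1, ev_ng, ev_ng, h3, inv_inv]
    · show ev (0, true) _ = (ev (1, true) _)⁻¹
      rw [h3, inv_inv]

theorem sq_zero : ∀ g ∈ XX 2 F (sr 0), g * g = 1 := by
  intro g hg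
  obtain ⟨t, ht⟩ := mem_XX_zero hg
  apply Subtype.ext
  show g.1 * g.1 = 1
  rw [ht, ← Frame.X_add, CharTwo.add_self_eq_zero, Frame.X_zero]

instance instFinY (m : ℕ) : Finite (Y m F) := by
  have : Finite (V m F) := inferInstanceAs (Finite (Fin m ⊕ Fin m → F))
  have : Finite (V m F ≃ₗ[F] V m F) :=
    Finite.of_injective (fun g : V m F ≃ₗ[F] V m F => (g : V m F → V m F)) DFunLike.coe_injective
  infer_instance

/-- **`PSp₄(q)`, `q > 2` even.** -/
theorem good5_Sp4 (F : Type u) [Field F] [Finite F] [CharP F 2] (hF : 3 ≤ Nat.card F)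
    (hC : H601.OddDeg.TwoC (PSp 2 F)) : H601.K4.Good5 (PSp 2 F) := by
  have hW : Finite (CoxeterMatrix.B 2).Group := finite_W (CoxeterMatrix.B 2).toCoxeterSystem
  have R := rgdY (m := 2) (F := F) (CoxeterMatrix.B 2).toCoxeterSystem
  have hG := GG_top (m := 2) (F := F) (by norm_num) (CoxeterMatrix.B 2).toCoxeterSystem
  have hC' : H601.OddDeg.TwoC (Y 2 F) := hC.congr eqv.symm
  have hT := comm (m := 2) (F := F)
  refine H740.K4.good5_of_equiv (eqv (m := 2) (F := F)).symm ?_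
  have hi : OC (CoxeterMatrix.B 2).toCoxeterSystem (isCartan 2) (XX 2 F) {(0 : Fin 2)} :=
    oc_node_inv R (nodeInv_zero R) sq_zero
  have hj : OC (CoxeterMatrix.B 2).toCoxeterSystem (isCartan 2) (XX 2 F) {(1 : Fin 2)} := oc_last R (by decide)
  have e00 : sg (0 : Fin 2) (0, true) = (1, true) := by decide
  have e01 : sg (0 : Fin 2) (1, true) = (0, true) := by decide
  have e10 : sg (1 : Fin 2) (0, true) = (0, true) := by decide
  have e11 : sg (1 : Fin 2) (1, true) = ng (1, true) := by decide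
  have c0 : ∀ t, ev (0, true) (cv (TT 2 F) (R.nsys.norm 0) t) = ev (1, true) t := fun t => by rw [ev_cv R.nsys, e00]
  have c1 : ∀ t, ev (1, true) (cv (TT 2 F) (R.nsys.norm 0) t) = ev (0, true) t := fun t => by rw [ev_cv R.nsys, e01]
  have c2 : ∀ t, ev (0, true) (cv (TT 2 F) (R.nsys.norm 1) t) = ev (0, true) t := fun t => by rw [ev_cv R.nsys, e10]
  have c3 : ∀ t, ev (1, true) (cv (TT 2 F) (R.nsys.norm 1) t) = (ev (1, true) t)⁻¹ := fun t => by
    rw [ev_cv R.nsys, e11, ev_ng]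
  have hex : ∀ u v : Fˣ, ∃ t : TT 2 F, ev (0, true) t = u ∧ ev (1, true) t = v := by
    intro u v
    obtain ⟨s, h1, h2⟩ := exists_tor_one (m := 2) (0 : Fin 2) u
    obtain ⟨s', h3, h4⟩ := exists_tor_one (m := 2) (1 : Fin 2) v
    refine ⟨s * s', ?_, ?_⟩
    · rw [map_mul, h1, h4 0 (by decide), mul_one]
    · rw [map_mul, h2 1 (by decide), h3, one_mul]
  have hsq : ∀ s : Fˣ, ∃ v : Fˣ, v * v = s := by
    intro s
    obtain ⟨k, hk⟩ := odd_units F
    refine ⟨s ^ (k + 1), ?_⟩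
    have h1 : s ^ Nat.card Fˣ = 1 := pow_card_eq_one'
    rw [← pow_add, show k + 1 + (k + 1) = Nat.card Fˣ + 1 by omega, pow_succ, h1, one_mul]
  refine good5_split R hG hC' hT (i := (0 : Fin 2)) (j := 1) (by decide) (fun k => by revert k; decide) ?_ hi hj hF
    (ev (0, true) * (ev (1, true))⁻¹) (ev (1, true) ^ 2) ?_ ?_ (m := 2) (Or.inl rfl) ?_ ?_ ?_ ?_
  · decide
  · intro s
    obtain ⟨t, h1, h2⟩ := hex s 1
    refine ⟨t, ?_, ?_⟩
    · rw [MonoidHom.mul_apply, MonoidHom.inv_apply, h1, h2, inv_one, mul_one]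
    · rw [MonoidHom.pow_apply, h2, one_pow]
  · intro s
    obtain ⟨v, hv⟩ := hsq s
    obtain ⟨t, h1, h2⟩ := hex v v
    refine ⟨t, ?_, ?_⟩
    · rw [MonoidHom.mul_apply, MonoidHom.inv_apply, h1, h2, mul_inv_cancel]
    · rw [MonoidHom.pow_apply, h2, pow_two, hv]
  · intro t
    rw [MonoidHom.mul_apply, MonoidHom.inv_apply, MonoidHom.mul_apply, MonoidHom.inv_apply, c0, c1, mul_inv, inv_inv,
      mul_comm]
  · intro t
    rw [MonoidHom.mul_apply, MonoidHom.inv_apply, MonoidHom.pow_apply, MonoidHom.pow_apply, c1, mul_pow, inv_pow,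
      mul_comm, inv_mul_cancel_right]
  · intro t
    rw [MonoidHom.mul_apply, MonoidHom.inv_apply, MonoidHom.mul_apply, MonoidHom.inv_apply, MonoidHom.pow_apply, c2,
      c3, inv_inv, pow_two, mul_assoc, inv_mul_cancel_left]
  · intro t
    rw [MonoidHom.pow_apply, MonoidHom.pow_apply, c3, inv_pow]

end four

end Cfsg.Agent.H687.FourK.Sp
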