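import Cfsg.Agent.H687.FourK.TwD
import Cfsg.Agent.H687.FourK.Sp

/-!
# `Good5` for the simple groups `PSp₄(q)`, `G₂(q)`, `³D₄(q)`, `q` even (helper687, TEAM K4)
-/

set_option autoImplicit false

open Cfsg

namespace Cfsg.Agent.H687.FourK

open Cfsg.Agent.H601.K4 (Good5)

universe u v

variable {S : Type u} [Group S] [Finite S] [IsSimpleGroup S]

theorem row_PSp4 (hS : IsLieTypeChar 2 S) {F : Type v} [Field F] [Fintype F] [CharP F 2] (hF : 3 ≤ Fintype.card F)
    (e : S ≃* PSp 2 F) : Good5 S :=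
  H740.K4.good5_of_equiv e (Sp.good5_Sp4 F (by rwa [Nat.card_eq_fintype_card]) ((H742.TwoC.twoC_charTwo hS).congr e))

theorem row_G2 (hS : IsLieTypeChar 2 S) {F : Type v} [Field F] [Fintype F] [CharP F 2] (hF : 3 ≤ Fintype.card F)
    (e : S ≃* ↥(Lie.chevG2.group F)) : Good5 S :=
  H740.K4.good5_of_equiv e (good5_chevG2 F hF ((H742.TwoC.twoC_charTwo hS).congr e))

theorem row_3D4 (hS : IsLieTypeChar 2 S) {K : Type v} [Field K] [Fintype K] [CharP K 2] {q : ℕ} (hq : IsPrimePow q)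
    (hK : Fintype.card K = q ^ 3) (e : S ≃* ↥(Lie.twistedD4 K q)) : Good5 S :=
  H740.K4.good5_of_equiv e (good5_twistedD4 K q hq hK ((H742.TwoC.twoC_charTwo hS).congr e))

end Cfsg.Agent.H687.FourK
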