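import Cfsg.Agent.H687.FourK.Node
import Cfsg.Agent.H619.Gow.Lin2
import Cfsg.Agent.H619.Gow.WTwo
import Cfsg.Agent.H742.TwoC
import Cfsg.Agent.H740.K4.Equiv

/-!
# Five good characters of the groups of rank two, characteristic two (helper687, TEAM K4)

* `comp_mem_of_closed` : a set of linear characters of the torus closed under the simple reflections is closed under `W`;
* `exists_good_lam` : a good character above each linear character of the torus;
* `good5_rankTwo` : `I = {i, j}`, `A i j ≠ A j i`, `OC {i}`, `OC {j}` and three linear characters of the torus in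
  different orbits give `Good5`.
-/

set_option autoImplicit false
set_option linter.unusedSectionVars false

open scoped ComplexConjugate
open Cfsg

namespace Cfsg.Agent.H687.FourK

open Cfsg.Agent.OddOrderCharacters.Clifford Cfsg.Agent.Characters
open CoxeterSystem Cfsg.Agent.ChevalleyStructure.CoxeterGeom Cfsg.Agent.Tits.Roots Cfsg.Agent.Tits.Core
  Cfsg.Agent.Tits.Exchange Cfsg.Agent.Nodes.Reps Cfsg.Agent.Nodes.BNOf Cfsg.Agent.Nodes.StabComb
  Cfsg.Agent.Nodes.Bruhat Cfsg.Agent.Nodes.OppDec Cfsg.Agent.Nodes.LeviDec Cfsg.Agent.H53.HC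
  Cfsg.Agent.KFacts.RgdAut Cfsg.Agent.H246.Dl
open Cfsg.Agent.H967.K4 (SF OC ms)
open Cfsg.Agent.H601.K4 (OddIrr Good5)
open Cfsg.Agent.H619.Gow (cv coe_cv comp_cv_mul comp_cv_rp)

universe u

section five

variable {S : Type u} [Group S]

theorem good5_of_five {a b c d e : S → ℂ} (ha : H601.K4.Good a) (hb : H601.K4.Good b) (hc : H601.K4.Good c)
    (hd : H601.K4.Good d) (he : H601.K4.Good e)
    (hab : a ≠ b) (hac : a ≠ c) (had : a ≠ d) (hae : a ≠ e) (hbc : b ≠ c) (hbd : b ≠ d) (hbe : b ≠ e) (hcd : c ≠ d)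
    (hce : c ≠ e) (hde : d ≠ e) : Good5 S := by
  refine ⟨![a, b, c, d, e], ?_, ?_⟩
  · intro i j hij
    fin_cases i <;> fin_cases j <;> simp_all
  · intro i
    fin_cases i
    · exact ha
    · exact hb
    · exact hc
    · exact hd
    · exact he

end five

section lin

theorem oddIrr_hom {T : Type*} [Group T] [Finite T] (f : T →* ℂˣ) : OddIrr (fun t => ((f t : ℂˣ) : ℂ)) := by
  refine ⟨Linear.isIrrCharacter_hom f, ?_⟩
  have h1 : charDegree (fun t => ((f t : ℂˣ) : ℂ)) = 1 := by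
    unfold charDegree
    simp
  rw [h1]
  norm_num

/-- if the inner product does not vanish the homomorphisms are equal -/
theorem eq_of_sum_ne {T : Type*} [Group T] [Finite T] [Fintype T] {f g : T →* ℂˣ}
    (h : ∑ t : T, ((f t : ℂˣ) : ℂ) * conj ((g t : ℂˣ) : ℂ) ≠ 0) : f = g := by
  classical
  by_contra hne
  apply h
  have h1 : ∀ t : T, ((f t : ℂˣ) : ℂ) * conj ((g t : ℂˣ) : ℂ) = ((Units.coeHom ℂ).comp (f * g⁻¹)) t := by
    intro t
    have h2 : ‖((g t : ℂˣ) : ℂ)‖ = 1 := Linear.norm_hom_apply g t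
    rw [MonoidHom.comp_apply, MonoidHom.mul_apply, MonoidHom.inv_apply, Units.coeHom_apply, Units.val_mul,
      Units.val_inv_eq_inv_val, Complex.inv_eq_conj h2]
  rw [Finset.sum_congr rfl fun t _ => h1 t]
  refine sum_hom_units_eq_zero ((Units.coeHom ℂ).comp (f * g⁻¹)) fun h3 => hne ?_
  ext t
  have h4 := DFunLike.congr_fun h3 t
  rw [MonoidHom.comp_apply, Units.coeHom_apply, MonoidHom.one_apply] at h4
  have h5 : (f * g⁻¹) t = 1 := Units.ext h4
  rw [MonoidHom.mul_apply, MonoidHom.inv_apply, mul_inv_eq_one] at h5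
  rw [h5]

end lin

section main

variable {I W : Type*} {Y : Type u} [Fintype I] [DecidableEq I] [Group W] [Group Y] {M : CoxeterMatrix I}
  {cs : CoxeterSystem M W} {A : I → I → ℤ} {h : IsCartan M A} {r : ℕ} {T : Subgroup Y} {n : I → Y}
  {X : (I → ℤ) → Subgroup Y}

/-- **Closed sets of linear characters of the torus.** -/
theorem comp_mem_of_closed (R : RGD cs h r T n X) [Finite W] (hT : ∀ x ∈ T, ∀ y ∈ T, x * y = y * x)
    (S : Set (T →* ℂˣ)) (hS : ∀ k, ∀ f ∈ S, f.comp (cv T (R.nsys.norm k)) ∈ S) (w : W) :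
    ∀ f ∈ S, ∀ (g : Y) (hg : Rp cs R.nsys w g), f.comp (cv T hg.mem_normalizer) ∈ S := by
  induction w using cs.simple_induction_left with
  | one =>
    intro f hf g hg
    have h1 : f.comp (cv T hg.mem_normalizer) = f := by
      ext t
      simp only [MonoidHom.comp_apply]
      congr 2
      apply Subtype.ext
      rw [coe_cv, mul_assoc, hT _ t.2 _ hg.mem_of_one, inv_mul_cancel_left]
    rw [h1]
    exact hf
  | mul_simple_left w i ih =>
    intro f hf g hg
    obtain ⟨k, hk⟩ := exists_rp cs R.nsys w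
    have h1 := comp_cv_rp R hT hg ((rp_simple cs R.nsys i).mul hk) f
    rw [h1]
    have h2 : f.comp (cv T ((rp_simple cs R.nsys i).mul hk).mem_normalizer) =
        (f.comp (cv T hk.mem_normalizer)).comp (cv T (R.nsys.norm i)) :=
      comp_cv_mul T (R.nsys.norm i) hk.mem_normalizer f
    rw [h2]
    exact hS i _ (ih f hf k hk)

/-- **Good characters above the linear characters of the torus.** -/
theorem exists_good_lam (R : RGD cs h 2 T n X) [Finite W] [Finite Y] (hG : GG cs h T X = ⊤)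
    (hC : H601.OddDeg.TwoC Y) [Fintype (RGD.Sup X (RGD.Pos cs h))] [Fintype T] (f : T →* ℂˣ) :
    ∃ χ : Y → ℂ, H601.K4.Good χ ∧ ms (RGD.Sup X (RGD.Pos cs h)) T χ (fun t => ((f t : ℂˣ) : ℂ)) ≠ 0 := by
  obtain ⟨χ, h1, h2, h3⟩ := H967.K4.exists_odd_lam R hG (oddIrr_hom f)
  exact ⟨χ, h2.good h1 hC, h3⟩

/-- **Equal characters: conjugate linear characters.** -/
theorem exists_rp_of_ms (R : RGD cs h 2 T n X) [Finite W] [Finite Y] (hG : GG cs h T X = ⊤)
    [Fintype (RGD.Sup X (RGD.Pos cs h))] [Fintype T] {f g : T →* ℂˣ} {χ : Y → ℂ} (hχ : IsIrrCharacter Y χ)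
    (h1 : ms (RGD.Sup X (RGD.Pos cs h)) T χ (fun t => ((f t : ℂˣ) : ℂ)) ≠ 0)
    (h2 : ms (RGD.Sup X (RGD.Pos cs h)) T χ (fun t => ((g t : ℂˣ) : ℂ)) ≠ 0) :
    ∃ (w : W) (y : Y) (hy : Rp cs R.nsys w y), g.comp (cv T hy.mem_normalizer) = f := by
  obtain ⟨w, y, hy, hyT, h3⟩ := H967.K4.lam_conj R hG (oddIrr_hom f).1 (oddIrr_hom g).1 hχ h1 h2
  refine ⟨w, y, hy, (eq_of_sum_ne (f := f) (g := g.comp (cv T hy.mem_normalizer)) ?_).symm⟩
  exact h3

/-- the characters above the linear characters of the torus have `U`-fixed vectors, those of type `K ≠ ∅` have not -/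
theorem ne_of_ms (R : RGD cs h 2 T n X) [Finite W] [Finite Y]
    [Fintype (RGD.Sup X (RGD.Pos cs h))] [Fintype T] {f : T → ℂ} {χ χ' : Y → ℂ} (hχ : IsIrrCharacter Y χ)
    (h1 : ms (RGD.Sup X (RGD.Pos cs h)) T χ f ≠ 0) {K : Set I} (hK : K.Nonempty) (h2 : HT cs h X χ' K) : χ ≠ χ' := by
  rintro rfl
  exact h2.not_hasFix_U hK (H967.K4.hasFix_of_ms (RGD.Sup X (RGD.Pos cs h)) T R.T_le_normalizer_U hχ h1)

/-- the invariant form in rank two -/
theorem not_conj_of_ne {i j : I} (hij : i ≠ j) (hI : ∀ k, k = i ∨ k = j) (hA : A i j ≠ A j i) (w : W) :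
    rep cs h w (sr i) ≠ sr j := by
  have hinv : ∀ (w : W) (x : I → ℤ), A j i * (rep cs h w x i) ^ 2 + A i j * A j i * (rep cs h w x i) * (rep cs h w x j) +
      A i j * (rep cs h w x j) ^ 2 = A j i * (x i) ^ 2 + A i j * A j i * (x i) * (x j) + A i j * (x j) ^ 2 := by
    intro w
    induction w using cs.simple_induction_left with
    | one => intro x; rw [map_one, Module.End.one_apply]
    | mul_simple_left w k ih =>
      intro x
      rw [rep_mul_apply, ← ih x]
      set y := rep cs h w x with hy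
      have hdec : y = y i • sr i + y j • sr j := by
        ext k
        rcases hI k with rfl | rfl
        · rw [Pi.add_apply, Pi.smul_apply, Pi.smul_apply, sr_self, sr_ne hij]
          simp
        · rw [Pi.add_apply, Pi.smul_apply, Pi.smul_apply, sr_self, sr_ne hij.symm]
          simp
      rcases hI k with rfl | rfl
      · have h1 := H619.Gow.rep_comb_i (cs := cs) (h := h) (i := k) (j := j) (y k) (y j)
        rw [← hdec] at h1
        have e1 : rep cs h (cs.simple k) y k = -y k - A k j * y j := by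
          rw [h1, Pi.add_apply, Pi.smul_apply, Pi.smul_apply, sr_self, sr_ne hij]
          simp
        have e2 : rep cs h (cs.simple k) y j = y j := by
          rw [h1, Pi.add_apply, Pi.smul_apply, Pi.smul_apply, sr_self, sr_ne hij.symm]
          simp
        rw [e1, e2]
        ring
      · have h1 := H619.Gow.rep_comb_j (cs := cs) (h := h) (i := i) (j := k) (y i) (y k)
        rw [← hdec] at h1
        have e1 : rep cs h (cs.simple k) y i = y i := by
          rw [h1, Pi.add_apply, Pi.smul_apply, Pi.smul_apply, sr_self, sr_ne hij]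
          simp
        have e2 : rep cs h (cs.simple k) y k = -y k - A k i * y i := by
          rw [h1, Pi.add_apply, Pi.smul_apply, Pi.smul_apply, sr_self, sr_ne hij.symm]
          simp
        rw [e1, e2]
        ring
  intro hw
  have h1 := hinv w (sr i)
  rw [hw, sr_self, sr_self, sr_ne hij.symm, sr_ne hij] at h1
  apply hA
  linarith

/-- **Rank two.** -/
theorem good5_rankTwo (R : RGD cs h 2 T n X) [Finite W] [Finite Y] (hG : GG cs h T X = ⊤)
    (hC : H601.OddDeg.TwoC Y) {i j : I} (hij : i ≠ j) (hI : ∀ k, k = i ∨ k = j) (hA : A i j ≠ A j i)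
    (hi : OC cs h X {i}) (hj : OC cs h X {j}) (f₀ f₁ f₂ : T →* ℂˣ)
    (h01 : ∀ (w : W) (y : Y) (hy : Rp cs R.nsys w y), f₁.comp (cv T hy.mem_normalizer) ≠ f₀)
    (h02 : ∀ (w : W) (y : Y) (hy : Rp cs R.nsys w y), f₂.comp (cv T hy.mem_normalizer) ≠ f₀)
    (h12 : ∀ (w : W) (y : Y) (hy : Rp cs R.nsys w y), f₂.comp (cv T hy.mem_normalizer) ≠ f₁) : Good5 Y := by
  classical
  have : Fintype (RGD.Sup X (RGD.Pos cs h)) := Fintype.ofFinite _
  have : Fintype T := Fintype.ofFinite _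
  obtain ⟨χ₀, g₀, m₀⟩ := exists_good_lam R hG hC f₀
  obtain ⟨χ₁, g₁, m₁⟩ := exists_good_lam R hG hC f₁
  obtain ⟨χ₂, g₂, m₂⟩ := exists_good_lam R hG hC f₂
  obtain ⟨χ₃, o₃, s₃, t₃⟩ := hi.exists_HT R hG
  obtain ⟨χ₄, o₄, s₄, t₄⟩ := hj.exists_HT R hG
  refine good5_of_five g₀ g₁ g₂ (s₃.good o₃ hC) (s₄.good o₄ hC) ?_ ?_ ?_ ?_ ?_ ?_ ?_ ?_ ?_ ?_
  · rintro rfl
    obtain ⟨w, y, hy, e⟩ := exists_rp_of_ms R hG g₀.odd.1 m₀ m₁
    exact h01 w y hy e
  · rintro rfl
    obtain ⟨w, y, hy, e⟩ := exists_rp_of_ms R hG g₀.odd.1 m₀ m₂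
    exact h02 w y hy e
  · exact ne_of_ms R g₀.odd.1 m₀ (Set.singleton_nonempty i) t₃
  · exact ne_of_ms R g₀.odd.1 m₀ (Set.singleton_nonempty j) t₄
  · rintro rfl
    obtain ⟨w, y, hy, e⟩ := exists_rp_of_ms R hG g₁.odd.1 m₁ m₂
    exact h12 w y hy e
  · exact ne_of_ms R g₁.odd.1 m₁ (Set.singleton_nonempty i) t₃
  · exact ne_of_ms R g₁.odd.1 m₁ (Set.singleton_nonempty j) t₄
  · exact ne_of_ms R g₂.odd.1 m₂ (Set.singleton_nonempty i) t₃
  · exact ne_of_ms R g₂.odd.1 m₂ (Set.singleton_nonempty j) t₄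
  · rintro rfl
    obtain ⟨w, hw⟩ := t₃.le {j} t₄.fix
    obtain ⟨k, hk, e⟩ := hw i (Set.mem_singleton i)
    rw [Set.mem_singleton_iff.1 hk] at e
    exact not_conj_of_ne hij hI hA w e

/-- the trivial character is fixed -/
theorem one_comp_ne (R : RGD cs h r T n X) {f : T →* ℂˣ} (hf : f ≠ 1) (w : W) (y : Y) (hy : Rp cs R.nsys w y) :
    f.comp (cv T hy.mem_normalizer) ≠ 1 := by
  intro h1
  apply hf
  ext t
  have ht : y * (t : Y) * y⁻¹ ∈ T := (Subgroup.mem_normalizer_iff.1 hy.mem_normalizer t).1 t.2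
  have h2 := DFunLike.congr_fun h1 ⟨y * t * y⁻¹, ht⟩
  rw [MonoidHom.comp_apply] at h2
  have e : cv T hy.mem_normalizer ⟨y * t * y⁻¹, ht⟩ = t := by
    apply Subtype.ext
    rw [coe_cv]
    group
  rw [e] at h2
  rw [h2]
  rfl

end main

end Cfsg.Agent.H687.FourK
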