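import Cfsg.Agent.H687.FourK.RankTwo
import Cfsg.Agent.H619.Gow.TwD4

/-!
# `Good5` for `G₂(q)`, `q > 2` even, and the common part of `G₂(q)` and `PSp₄(q)` (helper687, TEAM K4)

* `exists_two_lam` : two nontrivial linear characters of the torus in different orbits under `W` of type `B₂` or `G₂`;
* `good5_split` : rank two, split over the field `F`;
* `good5_chevG2`.
-/

set_option autoImplicit false
set_option linter.unusedSectionVars false

open scoped ComplexConjugate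
open Cfsg

namespace Cfsg.Agent.H687.FourK

open CoxeterSystem Cfsg.Agent.ChevalleyStructure.CoxeterGeom Cfsg.Agent.Tits.Roots Cfsg.Agent.Tits.Core
  Cfsg.Agent.Tits.Exchange Cfsg.Agent.Nodes.Reps Cfsg.Agent.Nodes.BNOf Cfsg.Agent.Nodes.StabComb
  Cfsg.Agent.Nodes.Bruhat Cfsg.Agent.Nodes.OppDec Cfsg.Agent.Nodes.LeviDec Cfsg.Agent.H53.HC
  Cfsg.Agent.KFacts.RgdAut Cfsg.Agent.H246.Dl
open Cfsg.Agent.H967.K4 (SF OC ms)
open Cfsg.Agent.H601.K4 (OddIrr Good5)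
open Cfsg.Agent.H619.Gow (cv coe_cv comp_cv_mul comp_cv_rp Nd exists_chi chi_unique cv_simple nh coe_nh nd_chev nh_act
  isTypeG2 cartan01 cartan10 diag_comm two_nodes hS_up)
open Cfsg.Agent.ChevalleyStructure.SL2Hom (up lo)
open Cfsg.Agent.Nodes.RGDFoldSL (wS hS coe_wS coe_hS)

universe u

/-- nontrivial homomorphisms to `ℂˣ` of the multiplicative group -/
theorem exists_mu (F : Type*) [Field F] [Finite F] (hF : 3 ≤ Nat.card F) :
    ∃ (μ : Fˣ →* ℂˣ) (s : Fˣ), μ s ≠ 1 := by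
  have h1 : 1 < Nat.card Fˣ := by
    rw [Nat.card_units]
    omega
  have : Nontrivial Fˣ := Finite.one_lt_card_iff_nontrivial.1 h1
  obtain ⟨s, hs⟩ := exists_ne (1 : Fˣ)
  obtain ⟨μ, hμ⟩ := CommGroup.exists_apply_ne_one_of_hasEnoughRootsOfUnity Fˣ ℂ hs
  exact ⟨μ, s, hμ⟩

theorem odd_units (F : Type*) [Field F] [Finite F] [CharP F 2] : Odd (Nat.card Fˣ) := by
  have : Fintype F := Fintype.ofFinite F
  obtain ⟨n, hn⟩ := FiniteField.card F 2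
  rw [Nat.card_units, Nat.card_eq_fintype_card, hn.2]
  exact Nat.Even.sub_odd Nat.one_le_two_pow (Nat.even_pow.2 ⟨even_two, n.ne_zero⟩) odd_one

theorem eq_one_of_sq {F : Type*} [Field F] [Finite F] [CharP F 2] {μ : Fˣ →* ℂˣ} {s : Fˣ} (h : μ s ^ 2 = 1) :
    μ s = 1 := by
  have h1 : orderOf (μ s) ∣ 2 := orderOf_dvd_of_pow_eq_one h
  have h2 : orderOf (μ s) ∣ Nat.card Fˣ := (orderOf_map_dvd μ s).trans (orderOf_dvd_natCard s)
  have h3 : orderOf (μ s) = 1 := Nat.eq_one_of_dvd_coprimes (Nat.coprime_two_left.2 (odd_units F)) h1 h2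
  exact orderOf_eq_one_iff.1 h3

section main

variable {I W : Type*} {Y : Type u} [Fintype I] [DecidableEq I] [Group W] [Group Y] {M : CoxeterMatrix I}
  {cs : CoxeterSystem M W} {A : I → I → ℤ} {h : IsCartan M A} {r : ℕ} {T : Subgroup Y} {n : I → Y}
  {X : (I → ℤ) → Subgroup Y}

/-- The short roots. -/
def shortL (m : ℕ) : List (ℤ × ℤ) :=
  if m = 2 then [(1, 0), (-1, 0), (1, 1), (-1, -1)] else [(1, 0), (-1, 0), (1, 1), (-1, -1), (2, 1), (-2, -1)]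

theorem shortL_i {m : ℕ} (hm : m = 2 ∨ m = 3) {p : ℤ × ℤ} (hp : p ∈ shortL m) :
    (-p.1 + m * p.2, p.2) ∈ shortL m := by
  rcases hm with rfl | rfl <;> revert p <;> decide

theorem shortL_j {m : ℕ} (hm : m = 2 ∨ m = 3) {p : ℤ × ℤ} (hp : p ∈ shortL m) :
    (p.1, p.1 - p.2) ∈ shortL m := by
  rcases hm with rfl | rfl <;> revert p <;> decide

theorem shortL_fst {m : ℕ} (hm : m = 2 ∨ m = 3) {p : ℤ × ℤ} (hp : p ∈ shortL m) :
    p.1 = 1 ∨ p.1 = -1 ∨ p.1 = 2 ∨ p.1 = -2 := by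
  rcases hm with rfl | rfl <;> revert p <;> decide

theorem shortL_one (m : ℕ) : ((1, 0) : ℤ × ℤ) ∈ shortL m := by
  unfold shortL
  split_ifs <;> simp

/-- **Two linear characters of the torus.** -/
theorem exists_two_lam (R : RGD cs h r T n X) [Finite W] (hT : ∀ x ∈ T, ∀ y ∈ T, x * y = y * x) {i j : I}
    (hI : ∀ k, k = i ∨ k = j) {F : Type*} [Field F] [Finite F] [CharP F 2] (hF : 3 ≤ Nat.card F) (χi χj : T →* Fˣ)
    (hi : ∀ s, ∃ t, χi t = s ∧ χj t = 1) (hj : ∀ s, ∃ t, χi t = 1 ∧ χj t = s) {m : ℕ} (hm : m = 2 ∨ m = 3)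
    (hii : ∀ t, χi (cv T (R.nsys.norm i) t) = (χi t)⁻¹) (hji : ∀ t, χj (cv T (R.nsys.norm i) t) = χj t * χi t ^ m)
    (hij : ∀ t, χi (cv T (R.nsys.norm j) t) = χi t * χj t) (hjj : ∀ t, χj (cv T (R.nsys.norm j) t) = (χj t)⁻¹) :
    ∃ f₁ f₂ : T →* ℂˣ, f₁ ≠ 1 ∧ f₂ ≠ 1 ∧
      ∀ (w : W) (y : Y) (hy : Rp cs R.nsys w y), f₂.comp (cv T hy.mem_normalizer) ≠ f₁ := by
  obtain ⟨μ, s, hs⟩ := exists_mu F hF
  have hf1 : ∀ χ : T →* Fˣ, (∃ t, χ t = s) → μ.comp χ ≠ 1 := by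
    rintro χ ⟨t, ht⟩ h1
    have h2 := DFunLike.congr_fun h1 t
    rw [MonoidHom.comp_apply, ht, MonoidHom.one_apply] at h2
    exact hs h2
  obtain ⟨t, ht1, ht2⟩ := hi s
  obtain ⟨t', -, ht'⟩ := hj s
  refine ⟨μ.comp χj, μ.comp χi, hf1 _ ⟨t', ht'⟩, hf1 _ ⟨t, ht1⟩, fun w y hy he => ?_⟩
  let S : Set (T →* ℂˣ) := {f | ∃ p ∈ shortL m, ∀ t, f t = μ (χi t ^ p.1 * χj t ^ p.2)}
  have hmem : (μ.comp χi).comp (cv T hy.mem_normalizer) ∈ S := by
    refine comp_mem_of_closed R hT S ?_ w _ ?_ y hy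
    · rintro k f ⟨p, hp, hf⟩
      rcases hI k with rfl | rfl
      · refine ⟨_, shortL_i hm hp, fun t => ?_⟩
        rw [MonoidHom.comp_apply, hf, hii, hji]
        congr 1
        rw [inv_zpow', mul_zpow, zpow_add, zpow_mul, zpow_natCast, mul_comm (χj t ^ p.2), ← mul_assoc]
      · refine ⟨_, shortL_j hm hp, fun t => ?_⟩
        rw [MonoidHom.comp_apply, hf, hij, hjj]
        congr 1
        rw [inv_zpow', mul_zpow, mul_assoc, ← zpow_add]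
        rfl
    · exact ⟨(1, 0), shortL_one m, fun t => by rw [zpow_one, zpow_zero, mul_one]; rfl⟩
  rw [he] at hmem
  obtain ⟨p, hp, hf⟩ := hmem
  have h1 := hf t
  rw [MonoidHom.comp_apply, ht1, ht2, map_one, one_zpow, mul_one, map_zpow] at h1
  apply hs
  rcases shortL_fst hm hp with e | e | e | e
  · rw [e, zpow_one] at h1
    exact h1.symm
  · rw [e, zpow_neg, zpow_one] at h1
    exact inv_eq_one.1 h1.symm
  · rw [e] at h1
    exact eq_one_of_sq h1.symm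
  · rw [e, zpow_neg] at h1
    exact eq_one_of_sq (inv_eq_one.1 h1.symm)

/-- **Rank two, split.** -/
theorem good5_split (R : RGD cs h 2 T n X) [Finite W] [Finite Y] (hG : GG cs h T X = ⊤)
    (hC : H601.OddDeg.TwoC Y) (hT : ∀ x ∈ T, ∀ y ∈ T, x * y = y * x) {i j : I} (hne : i ≠ j)
    (hI : ∀ k, k = i ∨ k = j) (hA : A i j ≠ A j i)
    (hi : OC cs h X {i}) (hj : OC cs h X {j}) {F : Type*} [Field F] [Finite F] [CharP F 2] (hF : 3 ≤ Nat.card F)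
    (χi χj : T →* Fˣ)
    (hsi : ∀ s, ∃ t, χi t = s ∧ χj t = 1) (hsj : ∀ s, ∃ t, χi t = 1 ∧ χj t = s) {m : ℕ} (hm : m = 2 ∨ m = 3)
    (hii : ∀ t, χi (cv T (R.nsys.norm i) t) = (χi t)⁻¹) (hji : ∀ t, χj (cv T (R.nsys.norm i) t) = χj t * χi t ^ m)
    (hij : ∀ t, χi (cv T (R.nsys.norm j) t) = χi t * χj t) (hjj : ∀ t, χj (cv T (R.nsys.norm j) t) = (χj t)⁻¹) :
    Good5 Y := by
  obtain ⟨f₁, f₂, h1, h2, h3⟩ := exists_two_lam R hT hI hF χi χj hsi hsj hm hii hji hij hjj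
  exact good5_rankTwo R hG hC hne hI hA hi hj 1 f₁ f₂ (one_comp_ne R h1) (one_comp_ne R h2) h3

/-- **Rank two, both nodes parametrised by `SL₂(F)`.** -/
theorem good5_nd (R : RGD cs h 2 T n X) [Finite W] [Finite Y] (hG : GG cs h T X = ⊤)
    (hC : H601.OddDeg.TwoC Y) (hT : ∀ x ∈ T, ∀ y ∈ T, x * y = y * x) {i j : I} (hne : i ≠ j)
    (hI : ∀ k, k = i ∨ k = j) (hA : A i j ≠ A j i) {F : Type*} [Field F] [Finite F] [CharP F 2] (hF : 3 ≤ Nat.card F)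
    {φi φj : Matrix.SpecialLinearGroup (Fin 2) F →* Y} (Ni : Nd cs h T n X i φi) (Nj : Nd cs h T n X j φj)
    {m : ℕ} (hm : m = 2 ∨ m = 3)
    (hij : ∀ s : Fˣ, φj (hS (s : F)) * φi (up 1) * (φj (hS (s : F)))⁻¹ = φi (up (((s⁻¹ : Fˣ) : F) * 1)))
    (hji : ∀ s : Fˣ, φi (hS (s : F)) * φj (up 1) * (φi (hS (s : F)))⁻¹ = φj (up ((((s ^ m)⁻¹ : Fˣ) : F) * 1))) :
    Good5 Y := by
  obtain ⟨χi, hχi⟩ := exists_chi Ni R hT
  obtain ⟨χj, hχj⟩ := exists_chi Nj R hT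
  have hii' : ∀ s : Fˣ, χi ⟨φi (hS (s : F)), Ni.h1 _ s.ne_zero⟩ = s * s := by
    intro s
    refine chi_unique Ni R hχi ?_
    have h2 := congrArg φi (hS_up s.ne_zero 1)
    rw [map_mul, map_mul] at h2
    rw [mul_inv_eq_iff_eq_mul, h2]
    rfl
  have hjj' : ∀ s : Fˣ, χj ⟨φj (hS (s : F)), Nj.h1 _ s.ne_zero⟩ = s * s := by
    intro s
    refine chi_unique Nj R hχj ?_
    have h2 := congrArg φj (hS_up s.ne_zero 1)
    rw [map_mul, map_mul] at h2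
    rw [mul_inv_eq_iff_eq_mul, h2]
    rfl
  have hij' : ∀ s : Fˣ, χi ⟨φj (hS (s : F)), Nj.h1 _ s.ne_zero⟩ = s⁻¹ := fun s => chi_unique Ni R hχi (hij s)
  have hji' : ∀ s : Fˣ, χj ⟨φi (hS (s : F)), Ni.h1 _ s.ne_zero⟩ = (s ^ m)⁻¹ := fun s => chi_unique Nj R hχj (hji s)
  -- surjectivity
  have hsq : ∀ s : Fˣ, ∃ v : Fˣ, v * v = s := by
    intro s
    obtain ⟨k, hk⟩ := odd_units F
    refine ⟨s ^ (k + 1), ?_⟩
    have h1 : s ^ Nat.card Fˣ = 1 := pow_card_eq_one'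
    rw [← pow_add, show k + 1 + (k + 1) = Nat.card Fˣ + 1 by omega, pow_succ, h1, one_mul]
  have h4m : ∀ s : Fˣ, ∃ t : T, χi t = s ^ (4 - m) ∧ χj t = 1 := by
    intro s
    refine ⟨⟨φi (hS (s : F)), Ni.h1 _ s.ne_zero⟩ ^ 2 * ⟨φj (hS (s : F)), Nj.h1 _ s.ne_zero⟩ ^ m, ?_, ?_⟩
    · rw [map_mul, map_pow, map_pow, hii', hij']
      rcases hm with rfl | rfl
      · show (s * s) ^ 2 * s⁻¹ ^ 2 = s ^ 2
        rw [inv_pow, pow_two (s * s), pow_two s, mul_inv_cancel_right]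
      · show (s * s) ^ 2 * s⁻¹ ^ 3 = s ^ 1
        rw [inv_pow, mul_inv_eq_iff_eq_mul, pow_one, pow_two, pow_succ, pow_two]
        simp only [mul_assoc]
    · rw [map_mul, map_pow, map_pow, hjj', hji', inv_pow, ← pow_mul, mul_comm m 2, pow_mul, pow_two s,
        inv_mul_cancel]
  have h4m' : ∀ s : Fˣ, ∃ t : T, χi t = 1 ∧ χj t = s ^ (4 - m) := by
    intro s
    refine ⟨⟨φi (hS (s : F)), Ni.h1 _ s.ne_zero⟩ * ⟨φj (hS (s : F)), Nj.h1 _ s.ne_zero⟩ ^ 2, ?_, ?_⟩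
    · rw [map_mul, map_pow, hii', hij', inv_pow, pow_two, mul_inv_cancel]
    · rw [map_mul, map_pow, hjj', hji']
      rcases hm with rfl | rfl
      · show (s ^ 2)⁻¹ * (s * s) ^ 2 = s ^ 2
        rw [pow_two (s * s), pow_two s, inv_mul_cancel_left]
      · show (s ^ 3)⁻¹ * (s * s) ^ 2 = s ^ 1
        rw [inv_mul_eq_iff_eq_mul, pow_one, pow_two, pow_succ, pow_two]
        simp only [mul_assoc]
  have hsurj : ∀ s : Fˣ, ∃ v : Fˣ, v ^ (4 - m) = s := by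
    intro s
    rcases hm with rfl | rfl
    · obtain ⟨v, hv⟩ := hsq s
      exact ⟨v, by rw [← hv]; exact pow_two v⟩
    · exact ⟨s, pow_one s⟩
  have hcv : ∀ {k : I} {φ : Matrix.SpecialLinearGroup (Fin 2) F →* Y} (N : Nd cs h T n X k φ) {χ : T →* Fˣ}
      (hχ : ∀ (t : T) (a : F), (t : Y) * φ (up a) * (t : Y)⁻¹ = φ (up ((χ t : F) * a))) (t : T),
      cv T (R.nsys.norm k) t = t * (⟨φ (hS (χ t : F)), N.h1 _ (χ t).ne_zero⟩ : T)⁻¹ := fun N _ hχ t =>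
    cv_simple N R hT hχ t
  refine good5_split R hG hC hT hne hI hA (oc_node_nd R Ni) (oc_node_nd R Nj) hF χi χj ?_ ?_ hm ?_ ?_ ?_ ?_
  · intro s
    obtain ⟨v, rfl⟩ := hsurj s
    exact h4m v
  · intro s
    obtain ⟨v, rfl⟩ := hsurj s
    exact h4m' v
  · intro t
    rw [hcv Ni hχi t, map_mul, map_inv, hii', mul_inv, mul_inv_cancel_left]
  · intro t
    rw [hcv Ni hχi t, map_mul, map_inv, hji', inv_inv]
  · intro t
    rw [hcv Nj hχj t, map_mul, map_inv, hij', inv_inv]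
  · intro t
    rw [hcv Nj hχj t, map_mul, map_inv, hjj', mul_inv, mul_inv_cancel_left]

end main

section G2

open Cfsg.Lie Cfsg.Agent.ChevalleyStructure Cfsg.Agent.ChevalleyStructure.Elts Cfsg.Agent.ChevalleyStructure.NPerm
  Cfsg.Agent.Nodes.RGDChev

/-- **`G₂(q)`, `q > 2` even.** -/
theorem good5_chevG2 (F : Type u) [Field F] [Fintype F] [CharP F 2] (hF : 3 ≤ Fintype.card F)
    (hC : H601.OddDeg.TwoC ↥(Lie.chevG2.group F)) : Good5 ↥(Lie.chevG2.group F) := by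
  have : Fact (Nat.Prime 2) := ⟨Nat.prime_two⟩
  have : Finite CoxeterMatrix.G₂.Group := finite_W isTypeG2 CoxeterMatrix.G₂.toCoxeterSystem
  have R := Cfsg.Agent.Nodes.RGDChev.rgd (K := F) isTypeG2 CoxeterMatrix.G₂.toCoxeterSystem 2
  have hG : GG CoxeterMatrix.G₂.toCoxeterSystem isTypeG2.isCartan ((chevG2.diagonalSubgroup F).subgroupOf (chevG2.group F))
      (fun x => (XV chevG2 2 F x).subgroupOf (chevG2.group F)) = ⊤ :=
    Cfsg.Agent.KFacts.RgdFilt.GG_eq_top (Cfsg.Agent.Nodes.RGDChev.G1_eq_top isTypeG2 _)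
  have hT : ∀ x ∈ (chevG2.diagonalSubgroup F).subgroupOf (chevG2.group F),
      ∀ y ∈ (chevG2.diagonalSubgroup F).subgroupOf (chevG2.group F), x * y = y * x := by
    intro x hx y hy
    exact Subtype.ext (diag_comm isTypeG2.inList (Subgroup.mem_subgroupOf.1 hx) (Subgroup.mem_subgroupOf.1 hy))
  have N0 := nd_chev (K := F) isTypeG2 CoxeterMatrix.G₂.toCoxeterSystem 0
  have N1 := nd_chev (K := F) isTypeG2 CoxeterMatrix.G₂.toCoxeterSystem 1
  refine good5_nd R hG hC hT (i := 0) (j := 1) (by decide) (two_nodes (by decide)) ?_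
    (by rwa [Nat.card_eq_fintype_card]) N0 N1 (Or.inr rfl) ?_ ?_
  · decide +kernel
  · intro s
    rw [nh_act isTypeG2 1 0 s.ne_zero 1, cartan10]
    congr 3
    rw [Units.val_inv_eq_inv_val, zpow_neg, zpow_one]
  · intro s
    rw [nh_act isTypeG2 0 1 s.ne_zero 1, cartan01]
    congr 3
    rw [Units.val_inv_eq_inv_val, Units.val_pow_eq_pow_val, zpow_neg]
    congr 1
    exact zpow_natCast (s : F) 3

end G2

end Cfsg.Agent.H687.FourK
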