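import Cfsg.Agent.H687.FourK.Split

/-!
# `Good5` for `³D₄(q)`, `q` even (helper687, TEAM K4)

* `exists_two_lam_tri` : two nontrivial linear characters of the torus in different orbits under the Weyl group;
* `good5_twistedD4`.
-/

set_option autoImplicit false
set_option linter.unusedSectionVars false

open scoped ComplexConjugate
open Cfsg

namespace Cfsg.Agent.H687.FourK

open CoxeterSystem Cfsg.Agent.ChevalleyStructure.CoxeterGeom Cfsg.Agent.Tits.Roots Cfsg.Agent.Tits.Core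
  Cfsg.Agent.Tits.Exchange Cfsg.Agent.Nodes.Reps Cfsg.Agent.Nodes.BNOf Cfsg.Agent.Nodes.StabComb
  Cfsg.Agent.Nodes.Bruhat Cfsg.Agent.Nodes.OppDec Cfsg.Agent.Nodes.LeviDec Cfsg.Agent.H53.HC
  Cfsg.Agent.KFacts.RgdAut Cfsg.Agent.H246.Dl
open Cfsg.Agent.H967.K4 (SF OC ms)
open Cfsg.Agent.H601.K4 (OddIrr Good5)
open Cfsg.Agent.H619.Gow (cv coe_cv comp_cv_mul comp_cv_rp Nd exists_chi chi_unique cv_simple
  isTypeG2 diag_comm two_nodes hS_up nd_tw Pd ln act01 act10 mem_Fx3 fx1)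
open Cfsg.Agent.ChevalleyStructure.SL2Hom (up lo)
open Cfsg.Agent.Nodes.RGDFoldSL (wS hS coe_wS coe_hS Fx mem_Fx)

universe u

/-- an injective homomorphism of the multiplicative group to `ℂˣ` -/
theorem exists_mu_inj (F : Type*) [Field F] [Finite F] : ∃ μ : Fˣ →* ℂˣ, Function.Injective μ := by
  have : NeZero (Nat.card Fˣ) := ⟨Nat.card_pos.ne'⟩
  let e : Fˣ ≃* rootsOfUnity (Nat.card Fˣ) ℂ :=
    mulEquivOfCyclicCardEq (Complex.card_rootsOfUnity (Nat.card Fˣ)).symm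
  exact ⟨(rootsOfUnity (Nat.card Fˣ) ℂ).subtype.comp e.toMonoidHom,
    (rootsOfUnity (Nat.card Fˣ) ℂ).subtype_injective.comp e.injective⟩

section main

variable {I W : Type*} {Y : Type u} [Fintype I] [DecidableEq I] [Group W] [Group Y] {M : CoxeterMatrix I}
  {cs : CoxeterSystem M W} {A : I → I → ℤ} {h : IsCartan M A} {r : ℕ} {T : Subgroup Y} {n : I → Y}
  {X : (I → ℤ) → Subgroup Y}

/-- **Two linear characters of the torus**, triality. -/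
theorem exists_two_lam_tri (R : RGD cs h r T n X) [Finite W] (hT : ∀ x ∈ T, ∀ y ∈ T, x * y = y * x) {i j : I}
    (hI : ∀ k, k = i ∨ k = j) {F₀ F₁ : Type*} [Field F₀] [Field F₁] [Finite F₁] {q : ℕ} (hq : 2 ≤ q)
    (hF : Nat.card F₁ = q ^ 3) (χi : T →* F₀ˣ) (χj : T →* F₁ˣ) (ι : F₀ˣ →* F₁ˣ) (Φ : F₁ˣ →* F₁ˣ)
    (hΦ : ∀ v, Φ v = v ^ q) (hιΦ : ∀ s, Φ (ι s) = ι s)
    (hj : ∀ s, ∃ t, χi t = 1 ∧ χj t = s)
    (hii : ∀ t, χi (cv T (R.nsys.norm i) t) = (χi t)⁻¹) (hji : ∀ t, χj (cv T (R.nsys.norm i) t) = χj t * ι (χi t))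
    (hij : ∀ t, ι (χi (cv T (R.nsys.norm j) t)) = ι (χi t) * (χj t * Φ (χj t) * Φ (Φ (χj t))))
    (hjj : ∀ t, χj (cv T (R.nsys.norm j) t) = (χj t)⁻¹) :
    ∃ f₁ f₂ : T →* ℂˣ, f₁ ≠ 1 ∧ f₂ ≠ 1 ∧
      ∀ (w : W) (y : Y) (hy : Rp cs R.nsys w y), f₂.comp (cv T hy.mem_normalizer) ≠ f₁ := by
  obtain ⟨μ, hμ⟩ := exists_mu_inj F₁
  obtain ⟨v, hv⟩ := IsCyclic.exists_ofOrder_eq_natCard (α := F₁ˣ)
  rw [Nat.card_units, hF] at hv
  have hq3 : 8 ≤ q ^ 3 := le_trans (by norm_num) (Nat.pow_le_pow_left hq 3)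
  obtain ⟨t, ht1, ht2⟩ := hj v
  have hne : ∀ k : ℕ, 0 < k → k < q ^ 3 - 1 → v ^ k ≠ 1 := by
    intro k hk hk' h1
    have h2 := orderOf_dvd_of_pow_eq_one h1
    rw [hv] at h2
    exact absurd (Nat.le_of_dvd hk h2) (not_le.2 hk')
  have hf2 : μ.comp χj ≠ 1 := by
    intro h1
    have h2 := DFunLike.congr_fun h1 t
    rw [MonoidHom.comp_apply, ht2, MonoidHom.one_apply, ← map_one μ] at h2
    exact hne 1 one_pos (by omega) (by rw [pow_one]; exact hμ h2)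
  have hf1 : (μ.comp χj) ^ 2 ≠ 1 := by
    intro h1
    have h2 := DFunLike.congr_fun h1 t
    rw [MonoidHom.pow_apply, MonoidHom.comp_apply, ht2, MonoidHom.one_apply, ← map_pow, ← map_one μ] at h2
    exact hne 2 two_pos (by omega) (hμ h2)
  refine ⟨(μ.comp χj) ^ 2, μ.comp χj, hf1, hf2, fun w y hy he => ?_⟩
  let g₂ : T → F₁ˣ := fun t => ι (χi t) * χj t
  let g₃ : T → F₁ˣ := fun t => ι (χi t) * (Φ (χj t) * Φ (Φ (χj t)))
  let S : Set (T →* ℂˣ) := {f | ∃ g : T → F₁ˣ, (g = χj ∨ g = g₂ ∨ g = g₃) ∧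
    ((∀ t, f t = μ (g t)) ∨ ∀ t, f t = (μ (g t))⁻¹)}
  have hmem : (μ.comp χj).comp (cv T hy.mem_normalizer) ∈ S := by
    refine comp_mem_of_closed R hT S ?_ w _ ?_ y hy
    · rintro k f ⟨g, hg, hf⟩
      have hk : ∃ g' : T → F₁ˣ, (g' = χj ∨ g' = g₂ ∨ g' = g₃) ∧
          ((∀ t, g (cv T (R.nsys.norm k) t) = g' t) ∨ ∀ t, g (cv T (R.nsys.norm k) t) = (g' t)⁻¹) := by
        rcases hI k with rfl | rfl
        · rcases hg with rfl | rfl | rfl
          · exact ⟨g₂, Or.inr (Or.inl rfl), Or.inl fun t => (hji t).trans (mul_comm _ _)⟩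
          · refine ⟨χj, Or.inl rfl, Or.inl fun t => ?_⟩
            show ι (χi _) * χj _ = _
            rw [hii, hji, map_inv, mul_comm (χj t), inv_mul_cancel_left]
          · refine ⟨g₃, Or.inr (Or.inr rfl), Or.inl fun t => ?_⟩
            show ι (χi _) * (Φ (χj _) * Φ (Φ (χj _))) = ι (χi t) * (Φ (χj t) * Φ (Φ (χj t)))
            rw [hii, hji, map_inv, map_mul, map_mul, hιΦ, hιΦ, mul_comm (Φ (χj t)), mul_assoc, inv_mul_cancel_left,
              mul_comm (Φ (Φ (χj t))), mul_left_comm]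
        · rcases hg with rfl | rfl | rfl
          · exact ⟨χj, Or.inl rfl, Or.inr fun t => hjj t⟩
          · refine ⟨g₃, Or.inr (Or.inr rfl), Or.inl fun t => ?_⟩
            show ι (χi _) * χj _ = ι (χi t) * (Φ (χj t) * Φ (Φ (χj t)))
            rw [hij, hjj, mul_assoc, mul_assoc (χj t), mul_comm (χj t), mul_inv_cancel_right]
          · refine ⟨g₂, Or.inr (Or.inl rfl), Or.inl fun t => ?_⟩
            show ι (χi _) * (Φ (χj _) * Φ (Φ (χj _))) = ι (χi t) * χj t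
            rw [hij, hjj, map_inv, map_inv, mul_assoc, mul_assoc (χj t), ← mul_inv, mul_inv_cancel_right]
      obtain ⟨g', hg', hk⟩ := hk
      refine ⟨g', hg', ?_⟩
      rcases hf with hf | hf <;> rcases hk with hk | hk
      · exact Or.inl fun t => by rw [MonoidHom.comp_apply, hf, hk]
      · exact Or.inr fun t => by rw [MonoidHom.comp_apply, hf, hk, map_inv]
      · exact Or.inr fun t => by rw [MonoidHom.comp_apply, hf, hk]
      · exact Or.inl fun t => by rw [MonoidHom.comp_apply, hf, hk, map_inv, inv_inv]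
    · exact ⟨χj, Or.inl rfl, Or.inl fun t => rfl⟩
  rw [he] at hmem
  obtain ⟨g, hg, hf⟩ := hmem
  have hgt : g t = v ∨ g t = v ^ (q + q ^ 2) := by
    rcases hg with rfl | rfl | rfl
    · exact Or.inl ht2
    · left
      show ι (χi t) * χj t = v
      rw [ht1, ht2, map_one, one_mul]
    · right
      show ι (χi t) * (Φ (χj t) * Φ (Φ (χj t))) = _
      rw [ht1, ht2, map_one, one_mul, hΦ, hΦ, ← pow_mul, ← pow_add, ← pow_two]
  have h2 : v ^ 2 = g t ∨ v ^ 2 * g t = 1 := by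
    rcases hf with hf | hf
    · left
      have h1 := hf t
      rw [MonoidHom.pow_apply, MonoidHom.comp_apply, ht2, ← map_pow] at h1
      exact hμ h1
    · right
      have h1 := hf t
      rw [MonoidHom.pow_apply, MonoidHom.comp_apply, ht2, ← map_pow, ← map_inv] at h1
      rw [hμ h1, inv_mul_cancel]
  have hq2 : q + q ^ 2 < q ^ 3 := by
    have : q ^ 3 = q * q ^ 2 := by ring
    have h3 : q ^ 2 = q * q := by ring
    nlinarith
  rcases hgt with e | e <;> rw [e] at h2 <;> rcases h2 with h2 | h2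
  · rw [pow_two, mul_eq_left] at h2
    exact hne 1 one_pos (by omega) (by rw [pow_one]; exact h2)
  · rw [← pow_succ] at h2
    exact hne 3 (by omega) (by omega) h2
  · have h4 : 2 ≤ q + q ^ 2 := by nlinarith
    obtain ⟨k, hk⟩ := Nat.exists_eq_add_of_le h4
    rw [hk, pow_add, left_eq_mul] at h2
    have hk0 : 0 < k := by
      have : 4 ≤ q ^ 2 := by nlinarith
      omega
    exact hne k hk0 (by omega) h2
  · rw [← pow_add] at h2
    have h3 := orderOf_dvd_of_pow_eq_one h2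
    rw [hv] at h3
    rcases Nat.lt_or_ge 2 q with hq' | hq'
    · refine absurd (Nat.le_of_dvd (by omega) h3) (not_le.2 ?_)
      have : q ^ 3 = q * (q * q) := by ring
      have h5 : q ^ 2 = q * q := by ring
      have h6 : 9 ≤ q * q := by nlinarith
      have h7 : 3 * (q * q) ≤ q * (q * q) := Nat.mul_le_mul_right _ hq'
      have h8 : 3 * q ≤ q * q := Nat.mul_le_mul_right _ hq'
      omega
    · have : q = 2 := by omega
      subst this
      norm_num at h3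

/-- **Rank two, triality.** -/
theorem good5_tri (R : RGD cs h 2 T n X) [Finite W] [Finite Y] (hG : GG cs h T X = ⊤)
    (hC : H601.OddDeg.TwoC Y) (hT : ∀ x ∈ T, ∀ y ∈ T, x * y = y * x) {i j : I} (hne : i ≠ j)
    (hI : ∀ k, k = i ∨ k = j) (hA : A i j ≠ A j i) {F₀ F₁ : Type*} [Field F₀] [Finite F₀] [CharP F₀ 2] [Field F₁]
    [Finite F₁] [CharP F₁ 2] {q : ℕ} (hq : 2 ≤ q) (hF : Nat.card F₁ = q ^ 3)
    {φi : Matrix.SpecialLinearGroup (Fin 2) F₀ →* Y} {φj : Matrix.SpecialLinearGroup (Fin 2) F₁ →* Y}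
    (Ni : Nd cs h T n X i φi) (Nj : Nd cs h T n X j φj) (ι : F₀ˣ →* F₁ˣ) (Nm : F₁ˣ →* F₀ˣ) (Φ : F₁ˣ →* F₁ˣ)
    (hΦ : ∀ v, Φ v = v ^ q) (hιΦ : ∀ s, Φ (ι s) = ι s) (hN : ∀ v, ι (Nm v) = v * Φ v * Φ (Φ v))
    (hNι : ∀ s, Nm (ι s) = s ^ 3)
    (hij : ∀ s : F₁ˣ, φj (hS (s : F₁)) * φi (up 1) * (φj (hS (s : F₁)))⁻¹ = φi (up ((((Nm s)⁻¹ : F₀ˣ) : F₀) * 1)))
    (hji : ∀ s : F₀ˣ, φi (hS (s : F₀)) * φj (up 1) * (φi (hS (s : F₀)))⁻¹ = φj (up ((((ι s)⁻¹ : F₁ˣ) : F₁) * 1))) :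
    Good5 Y := by
  obtain ⟨χi, hχi⟩ := exists_chi Ni R hT
  obtain ⟨χj, hχj⟩ := exists_chi Nj R hT
  have hii' : ∀ s : F₀ˣ, χi ⟨φi (hS (s : F₀)), Ni.h1 _ s.ne_zero⟩ = s * s := by
    intro s
    refine chi_unique Ni R hχi ?_
    have h2 := congrArg φi (hS_up s.ne_zero 1)
    rw [map_mul, map_mul] at h2
    rw [mul_inv_eq_iff_eq_mul, h2]
    rfl
  have hjj' : ∀ s : F₁ˣ, χj ⟨φj (hS (s : F₁)), Nj.h1 _ s.ne_zero⟩ = s * s := by
    intro s
    refine chi_unique Nj R hχj ?_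
    have h2 := congrArg φj (hS_up s.ne_zero 1)
    rw [map_mul, map_mul] at h2
    rw [mul_inv_eq_iff_eq_mul, h2]
    rfl
  have hij' : ∀ s : F₁ˣ, χi ⟨φj (hS (s : F₁)), Nj.h1 _ s.ne_zero⟩ = (Nm s)⁻¹ := fun s =>
    chi_unique Ni R hχi (hij s)
  have hji' : ∀ s : F₀ˣ, χj ⟨φi (hS (s : F₀)), Ni.h1 _ s.ne_zero⟩ = (ι s)⁻¹ := fun s =>
    chi_unique Nj R hχj (hji s)
  have hsq : ∀ s : F₁ˣ, ∃ v : F₁ˣ, v * v = s := by
    intro s
    obtain ⟨k, hk⟩ := odd_units F₁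
    refine ⟨s ^ (k + 1), ?_⟩
    have h1 : s ^ Nat.card F₁ˣ = 1 := pow_card_eq_one'
    rw [← pow_add, show k + 1 + (k + 1) = Nat.card F₁ˣ + 1 by omega, pow_succ, h1, one_mul]
  have hinj : ∀ a b : F₀ˣ, a * a = b * b → a = b := by
    intro a b hab
    have h1 : (a * b⁻¹) ^ 2 = 1 := by
      rw [mul_pow, inv_pow, pow_two, pow_two, hab, mul_inv_cancel]
    have h2 : orderOf (a * b⁻¹) ∣ 2 := orderOf_dvd_of_pow_eq_one h1
    have h3 : orderOf (a * b⁻¹) = 1 := Nat.eq_one_of_dvd_coprimes (Nat.coprime_two_left.2 (odd_units F₀)) h2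
      (orderOf_dvd_natCard _)
    exact mul_inv_eq_one.1 (orderOf_eq_one_iff.1 h3)
  have hcvi : ∀ t, cv T (R.nsys.norm i) t = t * (⟨φi (hS (χi t : F₀)), Ni.h1 _ (χi t).ne_zero⟩ : T)⁻¹ := fun t =>
    cv_simple Ni R hT hχi t
  have hcvj : ∀ t, cv T (R.nsys.norm j) t = t * (⟨φj (hS (χj t : F₁)), Nj.h1 _ (χj t).ne_zero⟩ : T)⁻¹ := fun t =>
    cv_simple Nj R hT hχj t
  obtain ⟨f₁, f₂, h1, h2, h3⟩ := exists_two_lam_tri R hT hI hq hF χi χj ι Φ hΦ hιΦ (fun v => by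
    obtain ⟨w, hw⟩ := hsq (ι (Nm v) * v)
    have hNw : Nm w = Nm v * Nm v := by
      apply hinj
      rw [← map_mul, hw, map_mul, hNι, pow_succ, pow_two, mul_assoc, mul_assoc]
    refine ⟨⟨φi (hS (Nm v : F₀)), Ni.h1 _ (Nm v).ne_zero⟩ * ⟨φj (hS (w : F₁)), Nj.h1 _ w.ne_zero⟩, ?_, ?_⟩
    · rw [map_mul, hii', hij', hNw, mul_inv_cancel]
    · rw [map_mul, hji', hjj', hw, inv_mul_cancel_left]) (fun t => by
    rw [hcvi t, map_mul, map_inv, hii', mul_inv, mul_inv_cancel_left]) (fun t => by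
    rw [hcvi t, map_mul, map_inv, hji', inv_inv]) (fun t => by
    rw [hcvj t, map_mul, map_inv, hij', inv_inv, map_mul, hN]) (fun t => by
    rw [hcvj t, map_mul, map_inv, hjj', mul_inv, mul_inv_cancel_left])
  exact good5_rankTwo R hG hC hne hI hA (oc_node_nd R Ni) (oc_node_nd R Nj) 1 f₁ f₂ (one_comp_ne R h1)
    (one_comp_ne R h2) h3

end main

section D4

open Cfsg.Lie Cfsg.Agent.ChevalleyStructure Cfsg.Agent.ChevalleyStructure.Elts Cfsg.Agent.ChevalleyStructure.NPerm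
  Cfsg.Agent.Nodes.RGDChev

/-- **`³D₄(q)`, `q` even.** -/
theorem good5_twistedD4 (K : Type u) [Field K] [Fintype K] [CharP K 2] (q : ℕ) (hq : IsPrimePow q)
    (hK : Fintype.card K = q ^ 3) (hC : H601.OddDeg.TwoC ↥(Lie.twistedD4 K q)) : Good5 ↥(Lie.twistedD4 K q) := by
  have : Fact (Nat.Prime 2) := ⟨Nat.prime_two⟩
  obtain ⟨φ, hφ⟩ := D4Fixed.exists_frob hq hK
  have hle := D4Fixed.twisted_le_fix hK hφ
  have h3 := fun t => mem_Fx3 (φ := φ) hK hφ t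
  have : Finite CoxeterMatrix.G₂.Group := finite_W isTypeG2 CoxeterMatrix.G₂.toCoxeterSystem
  have R := Nodes.RGDTwD4.rgd (K := K) CoxeterMatrix.G₂.toCoxeterSystem hK hφ 2
  have hG : GG CoxeterMatrix.G₂.toCoxeterSystem Nodes.RGDTwD4.isCartan (Nodes.RGDTwD4.T K q)
      (Nodes.RGDTwD4.X φ q) = ⊤ :=
    Cfsg.Agent.KFacts.RgdFilt.GG_eq_top (Nodes.RGDTwD4.G1_eq_top CoxeterMatrix.G₂.toCoxeterSystem hK hφ)
  have hT : ∀ x ∈ Nodes.RGDTwD4.T K q, ∀ y ∈ Nodes.RGDTwD4.T K q, x * y = y * x := by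
    intro x hx y hy
    exact Subtype.ext (diag_comm Nodes.RGDTwD4.hp.inList (Subgroup.mem_inf.1 (Subgroup.mem_subgroupOf.1 hx)).1
      (Subgroup.mem_inf.1 (Subgroup.mem_subgroupOf.1 hy)).1)
  have N0 := nd_tw hφ hle CoxeterMatrix.G₂.toCoxeterSystem 0
  have N1 := nd_tw hφ hle CoxeterMatrix.G₂.toCoxeterSystem 1
  have c0 : CharP (Fx φ (ln 0)) 2 := (RingHom.charP_iff _ (Fx φ (ln 0)).subtype.injective 2).2 inferInstance
  have c1 : CharP (Fx φ (ln 1)) 2 := (RingHom.charP_iff _ (Fx φ (ln 1)).subtype.injective 2).2 inferInstance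
  have f0 : Finite (Fx φ (ln 0)) := inferInstance
  have f1 : Finite (Fx φ (ln 1)) := inferInstance
  have hcard : Nat.card (Fx φ (ln 1)) = q ^ 3 := by
    rw [← hK, ← Nat.card_eq_fintype_card]
    refine Nat.card_congr ((Equiv.subtypeUnivEquiv fun x => mem_Fx.2 (h3 x)))
  -- the inclusion of the fixed field, the norm and the Frobenius
  have hmem : ∀ x : Fx φ (ln 0), (x : K) ∈ Fx φ (ln 1) := fun x => mem_Fx.2 (h3 _)
  let ι : (Fx φ (ln 0))ˣ →* (Fx φ (ln 1))ˣ := Units.map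
    { toFun := fun x => ⟨(x : K), hmem x⟩
      map_one' := rfl
      map_mul' := fun _ _ => rfl }
  let Φ : (Fx φ (ln 1))ˣ →* (Fx φ (ln 1))ˣ := Units.map
    { toFun := fun x => ⟨φ (x : K), mem_Fx.2 (h3 _)⟩
      map_one' := Subtype.ext (map_one φ)
      map_mul' := fun _ _ => Subtype.ext (map_mul φ _ _) }
  have vι : ∀ s, (((ι s : (Fx φ (ln 1))ˣ) : Fx φ (ln 1)) : K) = ((s : Fx φ (ln 0)) : K) := fun _ => rfl
  have vΦ : ∀ s, (((Φ s : (Fx φ (ln 1))ˣ) : Fx φ (ln 1)) : K) = φ ((s : Fx φ (ln 1)) : K) := fun _ => rfl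
  have vN : ∀ s, (((Units.map (H619.Gow.nm h3) s : (Fx φ (ln 0))ˣ) : Fx φ (ln 0)) : K) =
      ((s : Fx φ (ln 1)) : K) * φ ((s : Fx φ (ln 1)) : K) * φ (φ ((s : Fx φ (ln 1)) : K)) := fun _ => rfl
  have ext1 : ∀ a b : (Fx φ (ln 1))ˣ, ((a : Fx φ (ln 1)) : K) = ((b : Fx φ (ln 1)) : K) → a = b := fun a b hab =>
    Units.ext (Subtype.ext hab)
  have ext0 : ∀ a b : (Fx φ (ln 0))ˣ, ((a : Fx φ (ln 0)) : K) = ((b : Fx φ (ln 0)) : K) → a = b := fun a b hab =>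
    Units.ext (Subtype.ext hab)
  refine good5_tri R hG hC hT (i := 0) (j := 1) (by decide) (two_nodes (by decide)) ?_ hq.two_le hcard N0 N1
    ι (Units.map (H619.Gow.nm h3)) Φ ?_ ?_ ?_ ?_ ?_ ?_
  · decide +kernel
  · intro v
    apply ext1
    rw [vΦ, Units.val_pow_eq_pow_val, hφ]
    rfl
  · intro s
    apply ext1
    rw [vΦ, vι]
    exact fx1 _
  · intro v
    apply ext1
    rw [vι, vN]
    rfl
  · intro s
    apply ext0
    rw [vN, vι, Units.val_pow_eq_pow_val]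
    have e1 : φ ((s : Fx φ (ln 0)) : K) = ((s : Fx φ (ln 0)) : K) := fx1 _
    rw [e1, e1]
    show _ = ((s : Fx φ (ln 0)) : K) ^ 3
    ring
  · intro s
    refine act10 hφ hle _ s.ne_zero _ _ ?_
    show ((((Units.map (H619.Gow.nm h3) s)⁻¹ : (Fx φ (ln 0))ˣ) : Fx φ (ln 0)) : K) * 1 = _ * 1
    rw [Units.val_inv_eq_inv_val]
    rfl
  · intro s
    refine act01 hφ hle _ s.ne_zero (fx1 _) _ _ ?_
    show ((((ι s)⁻¹ : (Fx φ (ln 1))ˣ) : Fx φ (ln 1)) : K) * 1 = ((s : Fx φ (ln 0)) : K)⁻¹ * 1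
    rw [Units.val_inv_eq_inv_val]
    rfl

end D4

end Cfsg.Agent.H687.FourK
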